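import Groth.Agent.SerreD94.HomSeq
import Groth.Agent.Var76.RegPres

/-!
# Auxiliary lemmas for the splitting criterion
-/

universe u

open CategoryTheory Limits AlgebraicGeometry TopologicalSpace Opposite

set_option autoImplicit false
set_option maxSynthPendingDepth 6
set_option maxHeartbeats 1000000
set_option backward.isDefEq.respectTransparency.types false

noncomputable section

namespace Groth.Agent.SerreD94

open Crv77 Var76.Reg

variable {X : Scheme.{u}}

/-- The unit section gives the identity. -/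
theorem unitHom_one : EGA73.unitHom (Coh.structureModule X) (1 : Γ(X, ⊤)) = 𝟙 _ := by
  refine Scheme.Modules.hom_ext _ _ fun U => ?_
  ext c
  refine (EGA73.unitHom_app (Coh.structureModule X) (1 : Γ(X, ⊤)) U c).trans ?_
  change (show Γ(X, U) from c) * (X.presheaf.map _).hom 1 = c
  exact (congrArg (fun t => (show Γ(X, U) from c) * t) (map_one _)).trans (mul_one _)

theorem hom_eq_unitHom {M : X.Modules} (f : Coh.structureModule X ⟶ M) :
    f = EGA73.unitHom M (f.app ⊤ (1 : Γ(X, ⊤))) := by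
  rw [← Var76.Reg.unitHom_comp (1 : Γ(X, ⊤)) f, unitHom_one, Category.id_comp]

theorem hom_eq_zero_of_subsingleton {M : X.Modules} (h : Subsingleton (Coh.HH X M 0))
    (f : Coh.structureModule X ⟶ M) : f = 0 := by
  have : Subsingleton Γ(M, ⊤) := (sec M).symm.toEquiv.subsingleton
  rw [hom_eq_unitHom f, hom_eq_unitHom (0 : Coh.structureModule X ⟶ M)]
  exact congrArg _ (Subsingleton.elim _ _)

/-- A nonzero endomorphism of the structure module is invertible when `H⁰(O)` is a line. -/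
theorem exists_inverse_endo {k : Type u} [Field k] [X.Over (Spec (CommRingCat.of k))]
    (h1 : Module.finrank k (Coh.HH X (Coh.structureModule X) 0) = 1)
    (f : Coh.structureModule X ⟶ Coh.structureModule X) (hf : f ≠ 0) : ∃ g, g ≫ f = 𝟙 _ := by
  let O := Coh.structureModule X
  let one : Coh.HH X O 0 := (sec O).symm (1 : Γ(X, ⊤))
  have hone : one ≠ 0 := fun h => hf (by
    have h' : (1 : Γ(X, ⊤)) = 0 :=
      ((sec O).apply_symm_apply (1 : Γ(X, ⊤))).symm.trans ((congrArg (sec O) h).trans (map_zero _))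
    have : Subsingleton Γ(X, ⊤) := subsingleton_of_zero_eq_one h'.symm
    rw [hom_eq_unitHom f, hom_eq_unitHom (0 : O ⟶ O)]
    exact congrArg _ (@Subsingleton.elim Γ(X, ⊤) this _ _))
  obtain ⟨a, ha⟩ := exists_smul_eq_of_finrank_eq_one h1 hone (hmap k f 0 one)
  let c : k → Γ(X, ⊤) := fun b => Coh.toGlobal (X ↘ Spec (CommRingCat.of k)) b
  have hfa : f.app ⊤ (1 : Γ(X, ⊤)) = (c a • (1 : Γ(X, ⊤)) : Γ(X, ⊤)) := by
    have h' := congrArg (sec O) ha
    rw [sec_hmap, sec_smul, AddEquiv.apply_symm_apply] at h'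
    exact h'.symm
  have ha0 : a ≠ 0 := fun h => hf (by
    rw [hom_eq_unitHom f, hom_eq_unitHom (0 : O ⟶ O)]
    refine congrArg _ (hfa.trans ?_)
    simp only [c, h, map_zero]
    show (0 : Γ(X, ⊤)) * 1 = 0
    exact zero_mul _)
  refine ⟨EGA73.unitHom O (c a⁻¹), ?_⟩
  rw [Var76.Reg.unitHom_comp, ← unitHom_one]
  refine congrArg _ ?_
  have e : c a⁻¹ = c a⁻¹ • (1 : Γ(X, ⊤)) := (mul_one _).symm
  refine (congrArg (f.app ⊤) e).trans ((Scheme.Modules.Hom.app_smul f _ _).trans ?_)
  rw [hfa]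
  change c a⁻¹ * (c a * 1) = 1
  rw [mul_one]
  show (Coh.toGlobal (X ↘ Spec (CommRingCat.of k)) a⁻¹ : Coh.Γtop X) * Coh.toGlobal (X ↘ Spec (CommRingCat.of k)) a = 1
  rw [← map_mul, inv_mul_cancel₀ ha0, map_one]

theorem whiskR_zero (M N L : X.Modules) : whiskR (0 : M ⟶ N) L = 0 :=
  (Mod48.tR (O := X.sheaf) L).map_zero M N

/-- Tensoring with an invertible module reflects zero morphisms. -/
theorem eq_zero_of_whiskR {G H : X.Modules} (i : CohB1.tensorMod G H ≅ Coh.structureModule X)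
    {M M' : X.Modules} (p : M ⟶ M') (h : whiskR p G = 0) : p = 0 := by
  obtain ⟨a, ha⟩ := Var76.Reg.exists_natIso_tensor i
  rw [← cancel_epi (a M).hom, ← ha, h, whiskR_zero, zero_comp, comp_zero]

/-- Vanishing passes to retracts. -/
theorem subsingleton_hh_retract (k : Type u) [CommRing k] [X.Over (Spec (CommRingCat.of k))] {M N : X.Modules}
    (a : M ⟶ N) (b : N ⟶ M) (h : a ≫ b = 𝟙 M) (i : ℕ) (hN : Subsingleton (Coh.HH X N i)) :
    Subsingleton (Coh.HH X M i) :=
  subsingleton_of_forall_eq 0 fun x => by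
    have : hmap k b i (hmap k a i x) = x := by rw [hmap_comp, h, hmap_id]
    rw [← this, hN.elim (hmap k a i x) 0, map_zero]

theorem isZero_sigma_fin_zero {C : Type*} [Category C] [HasZeroMorphisms C] (N : Fin 0 → C) [HasCoproduct N] :
    IsZero (∐ N) :=
  (IsZero.iff_id_eq_zero _).2 (Sigma.hom_ext _ _ fun l => l.elim0)

/-- Adding one summand. -/
def sigmaConsIso {C : Type*} [Category C] [Preadditive C] {r : ℕ} (M : C)
    (N : Fin r → C) [HasCoproduct N] [HasCoproduct (Fin.cons M N : Fin (r + 1) → C)]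
    [HasBinaryBiproduct M (∐ N)] : M ⊞ (∐ N) ≅ ∐ (Fin.cons M N : Fin (r + 1) → C) where
  hom := Limits.biprod.desc (X := M) (Y := ∐ N) (Sigma.ι (Fin.cons M N : Fin (r + 1) → C) 0)
    (Sigma.desc fun l => show N l ⟶ _ from Sigma.ι (Fin.cons M N : Fin (r + 1) → C) l.succ)
  inv := Sigma.desc fun j => Fin.cases (motive := fun j => (Fin.cons M N : Fin (r + 1) → C) j ⟶ M ⊞ (∐ N))
    (Limits.biprod.inl (X := M) (Y := ∐ N)) (fun l => Sigma.ι N l ≫ Limits.biprod.inr (X := M) (Y := ∐ N)) j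
  hom_inv_id := by
    refine biprod.hom_ext' _ _ ?_ ?_
    · rw [biprod.inl_desc_assoc, Category.comp_id]
      exact Sigma.ι_desc _ (0 : Fin (r + 1))
    · rw [biprod.inr_desc_assoc, Category.comp_id]
      refine Sigma.hom_ext _ _ fun l => ?_
      rw [Sigma.ι_desc_assoc]
      exact Sigma.ι_desc _ l.succ
  inv_hom_id := by
    refine Sigma.hom_ext _ _ fun j => ?_
    rw [Sigma.ι_desc_assoc, Category.comp_id]
    refine Fin.cases ?_ (fun l => ?_) j
    · exact Limits.biprod.inl_desc (X := M) (Y := ∐ N) _ _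
    · change (Sigma.ι N l ≫ biprod.inr) ≫ biprod.desc _ _ = _
      rw [Category.assoc, biprod.inr_desc, Sigma.ι_desc]

end Groth.Agent.SerreD94
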