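import Groth.Agent.SerreD94.FinDual
import Groth.Agent.SerreD94.SplitAux

/-!
# The cohomological splitting criterion on projective space
-/

universe u

open CategoryTheory Limits AlgebraicGeometry TopologicalSpace Opposite

set_option autoImplicit false
set_option maxSynthPendingDepth 6
set_option maxHeartbeats 1000000
set_option synthInstance.maxHeartbeats 400000
set_option backward.isDefEq.respectTransparency.types false

noncomputable section

namespace Groth.Agent.SerreD94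

open Crv77 Var76.Reg

variable (d : ℕ) (k : Type u) [Field k]

/-- The cohomological hypotheses of the criterion. -/
structure Hyp (F : (CohB1.ProjSpace d k).Modules) : Prop where
  coh : Coh.IsCoh F
  low : 1 ≤ d → ∃ n₀ : ℤ, ∀ n : ℤ, n ≤ n₀ → Subsingleton (Coh.HH (CohB1.ProjSpace d k) (tw d k F n) 0)
  mid : ∀ (n : ℤ) (i : ℕ), 1 ≤ i → i < d → Subsingleton (Coh.HH (CohB1.ProjSpace d k) (tw d k F n) i)

theorem finrank_h0_unit :
    Module.finrank k (Coh.HH (CohB1.ProjSpace d k) (Coh.structureModule (CohB1.ProjSpace d k)) 0) = 1 := by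
  obtain ⟨e⟩ := nonempty_twist_zero (n := d) (A := k)
  have hS : Pn71.posCell (ι := Fin (d + 1)) (0 : ℤ) = {0} := by
    ext m
    refine ⟨fun h => ?_, fun h => ?_⟩
    · refine Finsupp.ext fun i => ?_
      have h1 := h.1
      simp only [Pn71.deg] at h1
      exact (Finset.sum_eq_zero_iff_of_nonneg fun j _ => h.2 j).1 h1 i (Finset.mem_univ i)
    · subst h
      exact ⟨by simp [Pn71.deg], fun i => le_rfl⟩
  rw [← ((Pn71.hhZeroEquivNonneg d k 0 le_rfl).symm.trans (hEquiv k e 0)).finrank_eq, hS,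
    (Finsupp.supportedEquivFinsupp _).finrank_eq]
  exact (Finsupp.LinearEquiv.finsuppUnique k k _).finrank_eq.trans (Module.finrank_self k)

theorem nontrivial_h0_twist {j : ℤ} (hj : 0 ≤ j) :
    Nontrivial (Coh.HH (CohB1.ProjSpace d k) (Twist.twistProjSpace d k j) 0) := by
  refine ⟨(Pn71.hhZeroEquivNonneg d k j hj).symm ⟨Finsupp.single (Finsupp.single 0 j) (1 : k),
    Finsupp.single_mem_supported k 1 ⟨?_, fun i => ?_⟩⟩, 0, fun h => ?_⟩
  · simp only [Pn71.deg]
    rw [Finset.sum_eq_single (0 : Fin (d + 1)) (fun b _ hb => Finsupp.single_eq_of_ne hb)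
      (fun h => absurd (Finset.mem_univ _) h), Finsupp.single_eq_same]
  · rcases eq_or_ne i 0 with rfl | hi
    · rwa [Finsupp.single_eq_same]
    · rw [Finsupp.single_eq_of_ne hi]
  · have := congrArg Subtype.val ((LinearEquiv.map_eq_zero_iff _).1 h)
    simp at this

variable {d k} {F : (CohB1.ProjSpace d k).Modules}

theorem isZero_of_reg_of_h0 (hF : Coh.IsCoh F) {m : ℤ} (hr : Reg d k F m)
    (h0 : Subsingleton (Coh.HH (CohB1.ProjSpace d k) (tw d k F m) 0)) : IsZero F := by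
  have hFm : Coh.IsCoh (tw d k F m) :=
    Amp73.isCoh_tensorMod hF (Amp73.isCoh_of_isInvertible (isInvertible_twist m))
  have := finite_hh_tw F hF m 0
  obtain ⟨b, p, hp, -⟩ := exists_freeMod_epi_surjective (k := k) (tw d k F m) hFm (hr.spanned hF le_rfl)
  have hp0 : p = 0 := Sigma.hom_ext _ _ fun l => by
    rw [comp_zero]
    exact hom_eq_zero_of_subsingleton h0 _
  have hz : 𝟙 (tw d k F m) = 0 := (cancel_epi p).1 (by rw [hp0, zero_comp, comp_zero])
  obtain ⟨e₀⟩ := nonempty_twist_zero (n := d) (A := k)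
  obtain ⟨e⟩ := nonempty_twist_add (n := d) (A := k) (show m + -m = 0 by ring)
  refine (IsZero.iff_id_eq_zero F).2 (eq_zero_of_whiskR (e ≪≫ e₀) (𝟙 F) ?_)
  exact (whiskR_id _ F).trans hz

theorem exists_split (h : Hyp d k F) (hF0 : ¬ IsZero F) {N : ℤ} (hN : Reg d k F N) :
    ∃ (m : ℤ) (σ : Twist.twistProjSpace d k (-m) ⟶ F) (ψ : F ⟶ Twist.twistProjSpace d k (-m)),
      m ≤ N ∧ σ ≫ ψ = 𝟙 _ := by
  obtain ⟨m, hm, hmN, htop⟩ : ∃ m, Reg d k F m ∧ m ≤ N ∧
      ¬ Subsingleton (Coh.HH (CohB1.ProjSpace d k) (tw d k F (m - 1 - d)) d) := by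
    rcases Nat.eq_zero_or_pos d with hd | hd
    · subst hd
      refine ⟨N, hN, le_rfl, fun hs => hF0 (isZero_of_reg_of_h0 h.coh (m := N - 1) (fun i hi =>
        subsingleton_hh_gt 0 k _ (isQCoh_tw 0 k F h.coh.1 _) i hi) ?_)⟩
      simpa using hs
    · obtain ⟨n₀, hn₀⟩ := h.low hd
      obtain ⟨m, hm, hmin⟩ := Int.exists_least_of_bdd (P := fun z => Reg d k F z)
        ⟨n₀, fun z hz => not_lt.1 fun hlt => hF0 (isZero_of_reg_of_h0 h.coh hz (hn₀ z hlt.le))⟩ ⟨N, hN⟩
      refine ⟨m, hm, hmin N hN, fun hs => ?_⟩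
      have : Reg d k F (m - 1) := fun i hi => by
        rcases lt_trichotomy i d with hid | rfl | hid
        · exact h.mid _ i hi hid
        · exact hs
        · exact subsingleton_hh_gt d k _ (isQCoh_tw d k F h.coh.1 _) i hid
      have := hmin _ this
      omega
  let M := tw d k F (m - 1 - d)
  have hM : Coh.IsCoh M :=
    Amp73.isCoh_tensorMod h.coh (Amp73.isCoh_of_isInvertible (isInvertible_twist _))
  obtain ⟨φ, hφ⟩ : ∃ φ : M ⟶ omega d k, φ ≠ 0 := by
    by_contra hc
    push_neg at hc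
    refine htop (subsingleton_of_forall_eq 0 fun x => (Module.forall_dual_apply_eq_zero_iff k x).1 fun ξ => ?_)
    obtain ⟨φ, rfl⟩ := (bijective_formOf d k hM).2 ξ
    rw [hc φ]
    exact (congrArg (trace d k) (hmap_zero d x)).trans (map_zero _)
  obtain ⟨e₀⟩ := nonempty_twist_zero (n := d) (A := k)
  obtain ⟨eA⟩ := nonempty_twist_add (n := d) (A := k) (show ((d : ℤ) + 1) + eω d = 0 by simp only [eω]; ring)
  obtain ⟨eB⟩ := nonempty_twist_add (n := d) (A := k) (show eω d + ((d : ℤ) + 1) = 0 by simp only [eω]; ring)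
  obtain ⟨eG⟩ := nonempty_tw_tw F (show (m - 1 - d) + ((d : ℤ) + 1) = m by ring)
  let O := Coh.structureModule (CohB1.ProjSpace d k)
  let ψ₁ : tw d k F m ⟶ O := eG.inv ≫ whiskR φ _ ≫ (eB ≪≫ e₀).hom
  have hψ₁ : ψ₁ ≠ 0 := fun h0 => hφ (eq_zero_of_whiskR (eA ≪≫ e₀) φ (by
    have h1 : whiskR φ (Twist.twistProjSpace d k ((d : ℤ) + 1)) = eG.hom ≫ ψ₁ ≫ (eB ≪≫ e₀).inv := by
      simp [ψ₁]
    rw [h1, h0, zero_comp, comp_zero]))
  have hFm : Coh.IsCoh (tw d k F m) :=
    Amp73.isCoh_tensorMod h.coh (Amp73.isCoh_of_isInvertible (isInvertible_twist m))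
  have := finite_hh_tw F h.coh m 0
  obtain ⟨b, p, hp, -⟩ := exists_freeMod_epi_surjective (k := k) (tw d k F m) hFm (hm.spanned h.coh le_rfl)
  obtain ⟨s, hs⟩ : ∃ s : O ⟶ tw d k F m, s ≫ ψ₁ ≠ 0 := by
    by_contra hc
    push_neg at hc
    refine hψ₁ ?_
    rw [← cancel_epi p, comp_zero]
    refine Sigma.hom_ext _ _ fun l => ?_
    rw [comp_zero, ← Category.assoc]
    exact hc _
  obtain ⟨g, hg⟩ := exists_inverse_endo (k := k) (finrank_h0_unit d k) _ hs
  obtain ⟨eF⟩ := nonempty_tw_tw F (show m + -m = 0 by ring)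
  obtain ⟨eF0⟩ := nonempty_tw_zero (n := d) (A := k) F
  let u : CohB1.tensorMod O (Twist.twistProjSpace d k (-m)) ≅ Twist.twistProjSpace d k (-m) :=
    EGA73.tensUnitLeft _
  refine ⟨m, u.inv ≫ whiskR (g ≫ s) _ ≫ (eF ≪≫ eF0).hom,
    (eF ≪≫ eF0).inv ≫ whiskR ψ₁ _ ≫ u.hom, hmN, ?_⟩
  simp only [Category.assoc, Iso.hom_inv_id_assoc]
  rw [← Category.assoc (whiskR (g ≫ s) _), ← whiskR_comp, Category.assoc, hg, whiskR_id, Category.id_comp,
    Iso.inv_hom_id]

theorem exists_iso_aux (N : ℤ) : ∀ (c : ℕ) (F : (CohB1.ProjSpace d k).Modules), Hyp d k F →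
    Reg d k F N → Module.finrank k (Coh.HH (CohB1.ProjSpace d k) (tw d k F N) 0) ≤ c →
    ∃ (r : ℕ) (a : Fin r → ℤ), Nonempty (F ≅ ∐ fun j => Twist.twistProjSpace d k (a j)) := by
  intro c
  induction c using Nat.strong_induction_on with
  | _ c ih =>
    intro F h hr hc
    by_cases hF0 : IsZero F
    · exact ⟨0, Fin.elim0, ⟨hF0.iso (isZero_sigma_fin_zero _)⟩⟩
    obtain ⟨m, σ, ψ, hmN, hσψ⟩ := exists_split h hF0 hr
    haveI : IsSplitEpi ψ := ⟨⟨⟨σ, hσψ⟩⟩⟩
    let S := ShortComplex.mk (kernel.ι ψ) ψ (kernel.condition ψ)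
    let sp : S.Splitting := ShortComplex.Splitting.ofExactOfSection S (ShortComplex.exact_kernel ψ) σ hσψ
      (inferInstanceAs (Mono (kernel.ι ψ)))
    have hK : Coh.IsCoh (kernel ψ) :=
      QC70.isCoh_kernel ψ h.coh (Amp73.isCoh_of_isInvertible (isInvertible_twist (-m))).1
    have hret : ∀ n : ℤ, whiskR (kernel.ι ψ) (Twist.twistProjSpace d k n) ≫ whiskR sp.r _ = 𝟙 _ := fun n => by
      rw [← whiskR_comp]
      exact (congrArg (whiskR · _) sp.f_r).trans (whiskR_id _ _)
    have hK' : Hyp d k (kernel ψ) := by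
      exact ⟨hK, fun hd => (h.low hd).imp fun n₀ hn₀ n hn => subsingleton_hh_retract k _ _ (hret n) 0 (hn₀ n hn),
        fun n i h1 h2 => subsingleton_hh_retract k _ _ (hret n) i (h.mid n i h1 h2)⟩
    have hKr : Reg d k (kernel ψ) N := fun i hi => subsingleton_hh_retract k _ _ (hret _) i (hr i hi)
    have hlt : Module.finrank k (Coh.HH (CohB1.ProjSpace d k) (tw d k (kernel ψ) N) 0) <
        Module.finrank k (Coh.HH (CohB1.ProjSpace d k) (tw d k F N) 0) := by
      have := finite_hh_tw F h.coh N 0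
      let A := Crv77.hmap k (whiskR (kernel.ι ψ) (Twist.twistProjSpace d k N)) 0
      let B := Crv77.hmap k (whiskR ψ (Twist.twistProjSpace d k N)) 0
      have hA : Function.Injective A := Function.LeftInverse.injective
        (g := Crv77.hmap k (whiskR sp.r (Twist.twistProjSpace d k N)) 0) fun x => by
          rw [hmap_comp, hret, hmap_id]
      obtain ⟨eT⟩ := nonempty_twist_add (n := d) (A := k) (show -m + N = N - m by ring)
      have : Nontrivial (Coh.HH (CohB1.ProjSpace d k)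
          (tw d k (Twist.twistProjSpace d k (-m)) N) 0) := by
        have := nontrivial_h0_twist d k (show 0 ≤ N - m by omega)
        exact (hEquiv k eT 0).toEquiv.nontrivial
      obtain ⟨y, hy⟩ := exists_ne (0 : Coh.HH (CohB1.ProjSpace d k) (tw d k (Twist.twistProjSpace d k (-m)) N) 0)
      rw [← LinearMap.finrank_range_of_inj hA]
      refine Submodule.finrank_lt fun htop => ?_
      obtain ⟨x, hx⟩ : Crv77.hmap k (whiskR σ (Twist.twistProjSpace d k N)) 0 y ∈ LinearMap.range A :=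
        htop ▸ Submodule.mem_top
      refine hy ?_
      have h2 : B (Crv77.hmap k (whiskR σ (Twist.twistProjSpace d k N)) 0 y) = y := by
        rw [hmap_comp, ← whiskR_comp, hσψ, whiskR_id, hmap_id]
      rw [← h2, ← hx]
      change B (A x) = 0
      rw [hmap_comp, ← whiskR_comp, kernel.condition, whiskR_zero, hmap_zero]
    obtain ⟨r, a, ⟨e⟩⟩ := ih _ (hlt.trans_le hc) (kernel ψ) hK' hKr le_rfl
    let N' : Fin r → (CohB1.ProjSpace d k).Modules := fun j => Twist.twistProjSpace d k (a j)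
    refine ⟨r + 1, Fin.cons (-m) a, ⟨sp.isoBinaryBiproduct ≪≫ biprod.mapIso e (Iso.refl _) ≪≫
      biprod.braiding _ _ ≪≫ sigmaConsIso (Twist.twistProjSpace d k (-m)) N' ≪≫
      Sigma.mapIso fun j => eqToIso ?_⟩⟩
    refine Fin.cases ?_ (fun l => ?_) j <;> rfl

theorem exists_iso_coprod_twists (h : Hyp d k F) :
    ∃ (r : ℕ) (a : Fin r → ℤ), Nonempty (F ≅ ∐ fun j => Twist.twistProjSpace d k (a j)) := by
  obtain ⟨N, hN⟩ := exists_reg F h.coh
  exact exists_iso_aux N _ F h hN le_rfl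

theorem hyp_of_iso {r : ℕ} (a : Fin r → ℤ) (hF : Coh.IsCoh F)
    (e : F ≅ ∐ fun j => Twist.twistProjSpace d k (a j)) : Hyp d k F := by
  have key : ∀ (n : ℤ) (i : ℕ), (∀ j, Subsingleton
      (Coh.HH (CohB1.ProjSpace d k) (Twist.twistProjSpace d k (a j + n)) i)) →
      Subsingleton (Coh.HH (CohB1.ProjSpace d k) (tw d k F n) i) := fun n i h => by
    refine ValVan29.subsingleton_hh_of_iso
      (EGA73.tensIso (biproduct.isoCoproduct _ ≪≫ e.symm) (Iso.refl _)) i ?_
    refine QC70.biproduct_induction (fun M => Subsingleton (Coh.HH _ (tw d k M n) i))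
      (fun M h => ValVan29.subsingleton_hh_of_isZero (ValVan29.isZero_tensorMod h (isInvertible_twist n)) i)
      (fun S hS a c => sub_tw_X₂ hS a c) _ fun j => ?_
    obtain ⟨t⟩ := nonempty_twist_add (n := d) (A := k) (show a j + n = a j + n from rfl)
    exact ValVan29.subsingleton_hh_of_iso t.symm i (h j)
  refine ⟨hF, fun hd => ⟨-1 - ∑ j, |a j|, fun n hn => key n 0 fun j => ?_⟩, fun n i h1 h2 => key n i fun j => ?_⟩
  · have := Finset.single_le_sum (f := fun j => |a j|) (fun j _ => abs_nonneg (a j)) (Finset.mem_univ j)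
    have := le_abs_self (a j)
    exact Pn71.subsingleton_hh d k _ 0 (fun h => by omega) (fun h => by omega)
  · exact Pn71.subsingleton_hh d k _ i (fun h => by omega) (fun h => by omega)

end Groth.Agent.SerreD94
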