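import Groth.Agent.SerreD94.Pairing
import Groth.Agent.Var76.RegPres

/-!
# Coherent duality in the top degree on projective space
-/

universe u

open CategoryTheory Limits AlgebraicGeometry TopologicalSpace Opposite

set_option autoImplicit false
set_option maxSynthPendingDepth 6
set_option maxHeartbeats 1000000
set_option synthInstance.maxHeartbeats 400000

noncomputable section

namespace Groth.Agent.SerreD94

section General

variable {X : Scheme.{u}} {A : Type u} [CommRing A] [X.Over (Spec (CommRingCat.of A))]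

theorem hmap_add {M N : X.Modules} (φ ψ : M ⟶ N) (n : ℕ) (x : Coh.HH X M n) :
    Crv77.hmap A (φ + ψ) n x = Crv77.hmap A φ n x + Crv77.hmap A ψ n x := by
  change Sheaf.H.map ((Crv77.toAbF X).map (φ + ψ)) n x = _
  rw [Functor.map_add]
  exact Sheaf.H.map_add_apply _ _ x

/-- `hmap` as an additive map in the morphism. -/
def hmapHom (M N : X.Modules) (n : ℕ) (x : Coh.HH X M n) : (M ⟶ N) →+ Coh.HH X N n :=
  AddMonoidHom.mk' (fun φ => Crv77.hmap A φ n x) fun φ ψ => hmap_add φ ψ n x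

theorem hmap_zero {M N : X.Modules} (n : ℕ) (x : Coh.HH X M n) :
    Crv77.hmap A (0 : M ⟶ N) n x = 0 :=
  (hmapHom (A := A) M N n x).map_zero

theorem hmap_sub {M N : X.Modules} (φ ψ : M ⟶ N) (n : ℕ) (x : Coh.HH X M n) :
    Crv77.hmap A (φ - ψ) n x = Crv77.hmap A φ n x - Crv77.hmap A ψ n x :=
  (hmapHom (A := A) M N n x).map_sub φ ψ

/-- Classes of a finite sum come from the summands. -/
theorem hmap_sigma_total {b : ℕ} (M : Fin b → X.Modules) [HasCoproduct M] (n : ℕ)
    (y : Coh.HH X (∐ M) n) :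
    ∃ z : ∀ l, Coh.HH X (M l) n, y = ∑ l, Crv77.hmap A (Sigma.ι M l) n (z l) := by
  classical
  let prj : ∀ l, ∐ M ⟶ M l := fun l =>
    Sigma.desc fun l' => if h : l' = l then eqToHom (congrArg M h) else 0
  have htot : ∑ l, prj l ≫ Sigma.ι M l = 𝟙 (∐ M) := Sigma.hom_ext _ _ fun l' => by
    rw [Preadditive.comp_sum, Category.comp_id, Finset.sum_eq_single l']
    · simp [prj]
    · intro l _ hl
      simp [prj, Ne.symm hl]
    · simp
  refine ⟨fun l => Crv77.hmap A (prj l) n y, ?_⟩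
  simp only [Crv77.hmap_comp]
  refine Eq.trans ?_ (map_sum (hmapHom (A := A) _ _ n y) (fun l => prj l ≫ Sigma.ι M l) Finset.univ)
  rw [htot]
  exact (Crv77.hmap_id A _ n y).symm

end General

variable (n : ℕ) (k : Type u) [Field k]

/-- The dualising sheaf of projective space. -/
abbrev omega : (CohB1.ProjSpace n k).Modules := Twist.twistProjSpace n k (eω n)

theorem exists_presentation (F : (CohB1.ProjSpace n k).Modules) (hF : Coh.IsCoh F) :
    ∃ (d : ℤ) (b : ℕ) (p : (∐ fun _ : Fin b => Twist.twistProjSpace n k d) ⟶ F),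
      d ≤ eω n ∧ Epi p := by
  obtain ⟨m, hm⟩ := Var76.Reg.exists_reg F hF
  obtain ⟨b, p, hp, -⟩ := (hm.mono hF.1 (le_max_left m ((n : ℤ) + 1))).exists_presentation hF
  exact ⟨_, b, p, by have := le_max_right m ((n : ℤ) + 1); simp only [eω]; omega, hp⟩

/-- A morphism to the dualising sheaf killed by the trace is zero. -/
theorem eq_zero_of_trace {F : (CohB1.ProjSpace n k).Modules} (hF : Coh.IsCoh F) (φ : F ⟶ omega n k)
    (h : ∀ x, trace n k (Crv77.hmap k φ n x) = 0) : φ = 0 := by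
  obtain ⟨d, b, p, hd, hp⟩ := exists_presentation n k F hF
  rw [← cancel_epi p, comp_zero]
  refine Sigma.hom_ext _ _ fun l => ?_
  rw [comp_zero]
  refine (existsUnique_hom n k hd 0).unique (fun x => ?_) (fun x => ?_)
  · rw [LinearMap.zero_apply, ← Crv77.hmap_comp, ← Crv77.hmap_comp, h]
  · rw [LinearMap.zero_apply, hmap_zero, map_zero]

/-- `Hom(F, O(-n-1))` is the dual of `H^n(F)` for coherent `F`. -/
theorem existsUnique_dual {F : (CohB1.ProjSpace n k).Modules} (hF : Coh.IsCoh F)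
    (ψ : Coh.HH (CohB1.ProjSpace n k) F n →ₗ[k] k) :
    ∃! φ : F ⟶ omega n k, ∀ x, ψ x = trace n k (Crv77.hmap k φ n x) := by
  obtain ⟨d, b, p, hd, hp⟩ := exists_presentation n k F hF
  let N : Fin b → (CohB1.ProjSpace n k).Modules := fun _ => Twist.twistProjSpace n k d
  have hN : Coh.IsCoh (∐ N) := QC70.isCoh_of_iso (biproduct.isoCoproduct N)
    (QC70.isCoh_biproduct N fun _ => Amp73.isCoh_of_isInvertible (Var76.Reg.isInvertible_twist d))
  choose φl hφl using fun l : Fin b => (existsUnique_hom n k hd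
    (ψ.comp (Crv77.hmap (X := CohB1.ProjSpace n k) k (Sigma.ι N l ≫ p) n))).exists
  let Φ : ∐ N ⟶ omega n k := Sigma.desc φl
  have hΦ : ∀ y, trace n k (Crv77.hmap k Φ n y) = ψ (Crv77.hmap k p n y) := fun y => by
    obtain ⟨z, rfl⟩ := hmap_sigma_total (A := k) N n y
    simp only [map_sum, Crv77.hmap_comp]
    refine Finset.sum_congr rfl fun l _ => ?_
    rw [Sigma.ι_desc]
    exact (hφl l (z l)).symm
  have hK : Coh.IsCoh (kernel p) := QC70.isCoh_kernel p hN hF.1
  have hzero : kernel.ι p ≫ Φ = 0 := eq_zero_of_trace n k hK _ fun x => by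
    rw [← Crv77.hmap_comp, hΦ, Crv77.hmap_comp, kernel.condition, hmap_zero, map_zero]
  have hS := Var76.Reg.KData.kernel_shortExact p
  let φ : F ⟶ omega n k := Abelian.epiDesc p Φ hzero
  have hpφ : p ≫ φ = Φ := Abelian.comp_epiDesc p Φ hzero
  refine ⟨φ, fun x => ?_, fun φ' hφ' => ?_⟩
  · obtain ⟨y, rfl⟩ : ∃ y, Crv77.hmap k p n y = x := (Crv77.exact_g_δ k hS n x).1
      ((Var76.Reg.subsingleton_hh_gt n k (kernel p) hK.1 (n + 1) le_rfl).elim _ _)
    rw [← hΦ, Crv77.hmap_comp, hpφ]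
  · refine sub_eq_zero.1 (eq_zero_of_trace n k hF _ fun x => ?_)
    obtain ⟨y, rfl⟩ : ∃ y, Crv77.hmap k p n y = x := (Crv77.exact_g_δ k hS n x).1
      ((Var76.Reg.subsingleton_hh_gt n k (kernel p) hK.1 (n + 1) le_rfl).elim _ _)
    rw [hmap_sub, map_sub, ← hφ', Crv77.hmap_comp k p φ, hpφ, hΦ, sub_self]

end Groth.Agent.SerreD94
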