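import Groth.Agent.QC70.ExtCoh
import Groth.Agent.Div89.FreeStalks
import Groth.Agent.An92.Ample.Resolution
import Groth.Agent.ParaF26.Free

/-!
# Contravariant exactness of `𝓗om(-, P)` on locally free modules, and `𝓗om` out of invertible modules
-/

set_option autoImplicit false
set_option backward.isDefEq.respectTransparency.types false

noncomputable section

universe u

open CategoryTheory Limits AlgebraicGeometry TopologicalSpace Opposite

namespace Groth.Agent.SerreD94

open QC70 Props58.LocFree

variable {X : Scheme.{u}}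

/-- Tensoring with isomorphic modules gives isomorphic functors. -/
def tRIso {L L' : X.Modules} (i : L ≅ L') : Mod48.tR (O := X.sheaf) L ≅ Mod48.tR (O := X.sheaf) L' :=
  (ModSite.tensorBi X.sheaf).flip.mapIso i

/-- Tensoring with the structure module is the identity. -/
def tRUnit : Mod48.tR (O := X.sheaf) (ModSite.unit X.sheaf) ≅ 𝟭 X.Modules :=
  (Mod48.tensSymm (O := X.sheaf) (ModSite.unit X.sheaf)).symm ≪≫ Mod48.tensUnit (O := X.sheaf)

/-- `𝓗om(L, -)` is tensoring with the inverse. -/
theorem nonempty_homMod_of_inverse {L L' : X.Modules}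
    (i : CohB1.tensorMod L L' ≅ Coh.structureModule X) (i' : CohB1.tensorMod L' L ≅ Coh.structureModule X)
    (M : X.Modules) : Nonempty (homMod L M ≅ CohB1.tensorMod M L') := by
  let F : X.Modules ⥤ X.Modules := Mod48.tR (O := X.sheaf) L
  let G : X.Modules ⥤ X.Modules := Mod48.tR (O := X.sheaf) L'
  let η : 𝟭 X.Modules ≅ F ⋙ G :=
    (Mod48.tensAssocNat (O := X.sheaf) L L' ≪≫ tRIso i ≪≫ tRUnit).symm
  let ε : G ⋙ F ≅ 𝟭 X.Modules := Mod48.tensAssocNat (O := X.sheaf) L' L ≪≫ tRIso i' ≪≫ tRUnit
  let e : X.Modules ≌ X.Modules := CategoryTheory.Equivalence.mk F G η ε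
  exact ⟨((homModAdjR (X := X) L).rightAdjointUniq e.toAdjunction).app M⟩

/-- `0 → 𝓗om(C, P) → 𝓗om(B, P) → 𝓗om(A, P) → 0` for locally free `C`. -/
theorem shortExact_homComap_of_locFree {S : ShortComplex X.Modules} (hS : S.ShortExact)
    (h3 : FlatMod.IsFinLocFree S.X₃) (P : X.Modules) :
    (ShortComplex.mk ((homComap S.g).app P) ((homComap S.f).app P)
      (homComap_comp_eq_zero P)).ShortExact := by
  have := hS.mono_f
  have := hS.epi_g
  let R := fun U : X.Opens => Scheme.Modules.restrictFunctor U.ι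
  have hinj : ∀ (U : X.Opens), Function.Injective (((homComap S.g).app P).app U) := fun U φ ψ h => by
    haveI : Epi ((R U).map S.g) := inferInstance
    refine HomOn.toRestrictHom_injective ((cancel_epi ((R U).map S.g)).mp ?_)
    rw [← HomOn.toRestrictHom_comp, ← HomOn.toRestrictHom_comp]
    exact congrArg HomOn.toRestrictHom h
  have hex : ∀ (U : X.Opens) (φ : Γ(homMod S.X₂ P, U)),
      ((homComap S.f).app P).app U φ = 0 → ∃ ψ, ((homComap S.g).app P).app U ψ = φ := fun U φ h => by
    have hmap : (S.map (R U)).Exact := hS.exact.map (R U)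
    haveI : Epi (S.map (R U)).g := inferInstanceAs (Epi ((R U).map S.g))
    have h0 : (R U).map S.f ≫ (ofSec φ).toRestrictHom = 0 := by
      rw [← HomOn.toRestrictHom_comp, ← HomOn.toRestrictHom_zero (M := S.X₁) (N := P) (U := U)]
      exact congrArg HomOn.toRestrictHom h
    refine ⟨(HomOn.ofRestrictHom (hmap.desc (ofSec φ).toRestrictHom h0)).toSec,
      HomOn.toRestrictHom_injective ?_⟩
    refine (HomOn.toRestrictHom_comp _ _).trans ?_
    rw [HomOn.toRestrictHom_ofRestrictHom]
    exact hmap.g_desc _ h0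
  have hepi : Epi ((homComap S.f).app P) := epi_of_locally_surjective _ fun U φ p hp => by
    classical
    obtain ⟨U₀, n, s₀, hpU₀, hs₀⟩ := isFinLocFree_iff.mp h3 p
    choose V hV t hpV ht using fun i => exists_local_lift S.g
      (res S.X₃ (inf_le_right : U ⊓ U₀ ≤ U₀) (s₀ i)) (show p ∈ U ⊓ U₀ from ⟨hp, hpU₀⟩)
    let W : X.Opens := ⟨((U ⊓ U₀ : X.Opens) : Set X) ∩ ⋂ i, (V i : Set X),
      (U ⊓ U₀).2.inter (isOpen_iInter_of_finite fun i => (V i).2)⟩
    have hW : W ≤ U ⊓ U₀ := fun y hy => hy.1
    have hWV : ∀ i, W ≤ V i := fun i y hy => Set.mem_iInter.mp hy.2 i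
    have hs : StalkBasis fun i => res S.X₃ (inf_le_right : U ⊓ U₀ ≤ U₀) (s₀ i) :=
      hs₀.restrict inf_le_right
    let σ : HomOn S.X₃ S.X₂ W :=
      HomOn.ofBasis (hs.restrict hW) fun i => res S.X₂ (hWV i) (t i)
    have hσ : σ.toRestrictHom ≫ (R W).map S.g = 𝟙 _ := by
      have h1 : (σ.comp (HomOn.ofHom S.g W)) = HomOn.ofHom (𝟙 S.X₃) W := by
        refine HomOn.ext' fun Z hZ z => ?_
        obtain ⟨a, rfl⟩ := (hs.restrict hW).exists_comb hZ z
        change S.g.app Z (σ.app Z hZ _) = _
        rw [HomOn.ofBasis_app_comb, map_sum]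
        refine Finset.sum_congr rfl fun i _ => ?_
        rw [Scheme.Modules.Hom.app_smul, res_res (hWV i) hZ, app_res, ht,
          res_res (hV i), res_res hW hZ]
      have h2 : (σ.comp (HomOn.ofHom S.g W)).toRestrictHom = σ.toRestrictHom ≫ (R W).map S.g :=
        Scheme.Modules.hom_ext _ _ fun Z => by
          ext s
          rfl
      rw [← h2, h1]
      exact Scheme.Modules.hom_ext _ _ fun Z => by
          ext s
          rfl
    have hmap : (S.map (R W)).Exact := hS.exact.map (R W)
    haveI : Mono (S.map (R W)).f := inferInstanceAs (Mono ((R W).map S.f))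
    let sp : (S.map (R W)).Splitting :=
      ShortComplex.Splitting.ofExactOfSection _ hmap σ.toRestrictHom hσ inferInstance
    let φ' : HomOn S.X₁ P W := (ofSec φ).mono (hW.trans inf_le_left)
    refine ⟨W, hW.trans inf_le_left, (HomOn.ofRestrictHom (sp.r ≫ φ'.toRestrictHom)).toSec,
      ⟨⟨hp, hpU₀⟩, Set.mem_iInter.mpr hpV⟩, HomOn.toRestrictHom_injective (U := W) ?_⟩
    refine (HomOn.toRestrictHom_comp _ _).trans ?_
    rw [HomOn.toRestrictHom_ofRestrictHom, ← Category.assoc]
    exact (congrArg (· ≫ φ'.toRestrictHom) sp.f_r).trans (Category.id_comp _)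
  refine { exact := ?_, mono_f := mono_of_app_injective _ hinj, epi_g := hepi }
  rw [ShortComplex.exact_iff_epi_kernel_lift]
  refine epi_of_locally_surjective _ fun U s p hp => ?_
  obtain ⟨ψ, hψ⟩ := hex U ((kernel.ι ((homComap S.f).app P)).app U s) (by
    have := congr((Scheme.Modules.Hom.app $(kernel.condition ((homComap S.f).app P)) U) s)
    exact this)
  refine ⟨U, le_rfl, ψ, hp, ?_⟩
  rw [res_self]
  refine app_injective_of_mono (kernel.ι ((homComap S.f).app P)) U (Eq.trans ?_ hψ)
  exact congr((Scheme.Modules.Hom.app $(kernel.lift_ι ((homComap S.f).app P)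
    ((homComap S.g).app P) _) U) ψ)

/-- The kernel of an epimorphism of locally free coherent modules is locally free. -/
theorem isFinLocFree_kernel [IsLocallyNoetherian X] {E F : X.Modules} (hE : Coh.IsCoh E)
    (hF : Coh.IsCoh F) (hE' : FlatMod.IsFinLocFree E) (hF' : FlatMod.IsFinLocFree F)
    (g : E ⟶ F) [Epi g] : FlatMod.IsFinLocFree (kernel g) := by
  have hK : Coh.IsCoh (kernel g) := isCoh_kernel g hE hF.1
  refine (Div89.isFinLocFree_iff_free_stalks hK).mpr fun x => ?_
  haveI := (Div89.isFinLocFree_iff_free_stalks hE).mp hE' x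
  haveI := (Div89.isFinLocFree_iff_free_stalks hF).mp hF' x
  haveI := hE.2
  haveI := hK.2
  haveI := finite_stalk_of_isFiniteType (M := kernel g) x
  let f' := stalkLinear (kernel.ι g) x
  let g' := stalkLinear g x
  have hinj : Function.Injective f' := injective_stalkMapM_of_mono (kernel.ι g) x
  obtain ⟨σ, hσ⟩ := Module.projective_lifting_property g' LinearMap.id (surjective_stalkMapM_of_epi g x)
  have hrange : ∀ e, (LinearMap.id - σ.comp g' : _ →ₗ[X.presheaf.stalk x] _) e ∈ LinearMap.range f' := fun e =>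
    stalkMapM_exact (ShortComplex.mk (kernel.ι g) g (kernel.condition g))
      (ShortComplex.exact_kernel g) x _ (by
        change g' (e - σ (g' e)) = 0
        rw [map_sub, sub_eq_zero]
        exact (LinearMap.congr_fun hσ (g' e)).symm)
  let p := (LinearEquiv.ofInjective f' hinj).symm.toLinearMap.comp
    ((LinearMap.id - σ.comp g').codRestrict (LinearMap.range f') hrange)
  have hproj : Module.Projective (X.presheaf.stalk x) ((kernel g).presheaf.stalk x) := by
    refine Module.Projective.of_split f' p (LinearMap.ext fun y => hinj ?_)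
    have h0 : g' (f' y) = 0 := by
      obtain ⟨W, hxW, s, rfl⟩ := germM_exist y
      change stalkMapM g x (stalkMapM (kernel.ι g) x _) = 0
      rw [stalkMapM_germ, stalkMapM_germ]
      refine (congrArg (germM _ W x hxW) ?_).trans (germM_zero hxW)
      exact congr((Scheme.Modules.Hom.app $(kernel.condition g) W) s)
    change f' ((LinearEquiv.ofInjective f' hinj).symm _) = f' y
    refine (congrArg Subtype.val ((LinearEquiv.ofInjective f' hinj).apply_symm_apply _)).trans ?_
    change f' y - σ (g' (f' y)) = f' y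
    rw [h0, map_zero, sub_zero]
  exact Module.free_of_flat_of_isLocalRing

open Abelian in
/-- An Ext group out of a finite coproduct vanishes if it does so on the summands. -/
theorem subsingleton_ext_sigma [HasExt.{u} X.Modules] {b : ℕ} (N : Fin b → X.Modules) [HasCoproduct N]
    (P : X.Modules) (q : ℕ) (h : ∀ l, Subsingleton (Ext.{u} (N l) P q)) :
    Subsingleton (Ext.{u} (∐ N) P q) := by
  classical
  refine subsingleton_of_forall_eq 0 fun x => ?_
  let prj : ∀ l, ∐ N ⟶ N l := fun l =>
    Sigma.desc fun l' => if h : l' = l then eqToHom (congrArg N h) else 0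
  have htot : ∑ l, prj l ≫ Sigma.ι N l = 𝟙 (∐ N) := Sigma.hom_ext _ _ fun l' => by
    rw [Preadditive.comp_sum, Category.comp_id, Finset.sum_eq_single l']
    · simp [prj]
    · intro l _ hl
      simp [prj, Ne.symm hl]
    · simp
  let φ : (∐ N ⟶ ∐ N) →+ Ext.{u} (∐ N) P q :=
    AddMonoidHom.mk' (fun a => (Ext.mk₀ a).comp x (zero_add q)) fun a a' => by
      rw [Ext.mk₀_add, Ext.add_comp]
  have hx : x = φ (𝟙 _) := (Ext.mk₀_id_comp x).symm
  rw [hx, ← htot, map_sum]
  refine Finset.sum_eq_zero fun l _ => ?_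
  change (Ext.mk₀ (prj l ≫ Sigma.ι N l)).comp x (zero_add q) = 0
  rw [← Ext.mk₀_comp_mk₀, Ext.comp_assoc_of_second_deg_zero, (h l).elim ((Ext.mk₀ (Sigma.ι N l)).comp x (zero_add q)) 0, Ext.comp_zero]

/-- Finite coproducts of invertible modules are locally free. -/
theorem isFinLocFree_sigma {b : ℕ} (N : Fin b → X.Modules) (h : ∀ l, PicF.IsInvertible (N l)) :
    FlatMod.IsFinLocFree (∐ N) :=
  ParaF26.isFinLocFree_of_iso (biproduct.isoCoproduct N) (An92.AmpleRes.isFinLocFree_biproduct N h)

end Groth.Agent.SerreD94
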