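import Groth.Agent.SerreD94.Duality
import Groth.Agent.SerreD94.HomSeq
import Groth.Agent.Crv77.Sections
import Groth.Agent.Serre71.Finite
import Groth.Agent.Mero90.Frames
import Groth.Agent.Mod48.ModGen

/-!
# Serre duality for vector bundles on projective space: dimensions
-/

universe u

open CategoryTheory Limits AlgebraicGeometry TopologicalSpace Opposite

set_option autoImplicit false
set_option maxSynthPendingDepth 6
set_option maxHeartbeats 1000000
set_option synthInstance.maxHeartbeats 400000
set_option backward.isDefEq.respectTransparency.types false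

noncomputable section

namespace Groth.Agent.SerreD94

open QC70 Crv77

variable (n : ℕ) (k : Type u) [Field k]

section DualMap

variable {X : Scheme.{u}} {A : Type u} [CommRing A] [X.Over (Spec (CommRingCat.of A))]

theorem toAb_toHom_smul' {F P : X.Modules} (r : Γ(X, ⊤)) (φ : Γ(homMod F P, ⊤)) :
    (toAbF X).map (ofSec (r • φ)).toHom = (toAbF X).map (ofSec φ).toHom ≫ Coh.smulAb P r := by
  ext U m
  rfl

theorem toHom_add' {F P : X.Modules} (φ ψ : Γ(homMod F P, ⊤)) :
    (ofSec (φ + ψ)).toHom = (ofSec φ).toHom + (ofSec ψ).toHom :=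
  Scheme.Modules.hom_ext _ _ fun W => by
    ext s
    rfl

theorem bijective_toHom' {F P : X.Modules} :
    Function.Bijective fun φ : Γ(homMod F P, ⊤) => (ofSec φ).toHom := by
  refine ⟨fun φ ψ h => HomOn.ext' fun W hW s => congr((Scheme.Modules.Hom.app $h W) s), fun f => ?_⟩
  exact ⟨(HomOn.ofHom f ⊤).toSec, Scheme.Modules.hom_ext _ _ fun W => by
    ext s
    rfl⟩

/-- The form on `H^n(F)` attached to a morphism to `P` and a form on `H^n(P)`. -/
def formOf {F P : X.Modules} {n : ℕ} (t : Coh.HH X P n →ₗ[A] A) (φ : F ⟶ P) :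
    Module.Dual A (Coh.HH X F n) :=
  t.comp (Crv77.hmap A φ n)

theorem formOf_add {F P : X.Modules} {n : ℕ} (t : Coh.HH X P n →ₗ[A] A) (φ ψ : F ⟶ P) :
    formOf t (φ + ψ) = formOf t φ + formOf t ψ :=
  LinearMap.ext fun z => (congrArg t (hmap_add φ ψ n z)).trans (map_add t _ _)

theorem formOf_smul {F P : X.Modules} {n : ℕ} (t : Coh.HH X P n →ₗ[A] A) (a : A) (φ ψ : F ⟶ P)
    (h : (toAbF X).map ψ = (toAbF X).map φ ≫ Coh.smulAb P (Coh.toGlobal (X ↘ Spec (CommRingCat.of A)) a)) :
    formOf t ψ = a • formOf t φ := by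
  refine LinearMap.ext fun z => ?_
  refine Eq.trans (congrArg t ?_) (map_smul t a _)
  refine Eq.trans ?_ ((Crv77.smul_eq_comp A P n a _).trans (ext_comp_comp z _ _)).symm
  exact congrArg (fun f => Abelian.Ext.comp z (Abelian.Ext.mk₀ f) (add_zero n)) h

/-- The forms attached to global sections of `𝓗om(F, P)`. -/
def dualMap (F P : X.Modules) {n : ℕ} (t : Coh.HH X P n →ₗ[A] A) :
    Coh.HH X (homMod F P) 0 →ₗ[A] Module.Dual A (Coh.HH X F n) where
  toFun x := formOf t (ofSec (sec (homMod F P) x)).toHom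
  map_add' x y := by rw [map_add, toHom_add', formOf_add]
  map_smul' a x := formOf_smul t a _ _ (by rw [sec_smul A]; exact toAb_toHom_smul' _ _)

theorem bijective_dualMap {F P : X.Modules} {n : ℕ} (t : Coh.HH X P n →ₗ[A] A)
    (h : Function.Bijective (formOf (F := F) t)) : Function.Bijective (dualMap F P t) :=
  (h.comp bijective_toHom').comp (sec (homMod F P)).bijective

end DualMap

theorem bijective_formOf {F : (CohB1.ProjSpace n k).Modules} (hF : Coh.IsCoh F) :
    Function.Bijective (formOf (F := F) (trace n k)) := by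
  refine ⟨fun φ ψ h => (existsUnique_dual n k hF (formOf (trace n k) φ)).unique (fun _ => rfl)
    (fun z => LinearMap.congr_fun h z), fun ψ => ?_⟩
  obtain ⟨φ, hφ, -⟩ := existsUnique_dual n k hF ψ
  exact ⟨φ, LinearMap.ext fun z => (hφ z).symm⟩

theorem bijective_dualMapLin {F : (CohB1.ProjSpace n k).Modules} (hF : Coh.IsCoh F) :
    Function.Bijective (dualMap F (omega n k) (trace n k)) :=
  bijective_dualMap _ (bijective_formOf n k hF)

theorem finite_hh (M : (CohB1.ProjSpace n k).Modules) (hM : Coh.IsCoh M) (i : ℕ) :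
    Module.Finite k (Coh.HH (CohB1.ProjSpace n k) M i) :=
  haveI : IsProper (CohB1.ProjSpace n k ↘ Spec (CommRingCat.of k)) := Serre71.isProper_projSpace n k
  Serre71.finite_hh_of_isProper k _ hM i

/-- `Ext^q(O(d), ω) = 0` for `q > 0` and `d ≤ -n-1`. -/
theorem subsingleton_ext_twist [HasExt.{u} (CohB1.ProjSpace n k).Modules] {d : ℤ} (hd : d ≤ eω n)
    {q : ℕ} (hq : 0 < q) :
    Subsingleton (Abelian.Ext.{u} (Twist.twistProjSpace n k d) (omega n k) q) := by
  have hL := Var76.Reg.isInvertible_twist (n := n) (A := k) d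
  obtain ⟨e0⟩ := Var76.Reg.nonempty_twist_zero (n := n) (A := k)
  obtain ⟨i⟩ := Var76.Reg.nonempty_twist_add (n := n) (A := k) (a := d) (b := -d) (add_neg_cancel d)
  obtain ⟨i'⟩ := Var76.Reg.nonempty_twist_add (n := n) (A := k) (a := -d) (b := d) (neg_add_cancel d)
  obtain ⟨e⟩ := nonempty_homMod_of_inverse (i ≪≫ e0) (i' ≪≫ e0) (omega n k)
  obtain ⟨e'⟩ := Var76.Reg.nonempty_twist_add (n := n) (A := k) (a := eω n) (b := -d)
    (show eω n + -d = eω n - d by ring)
  have hloc : FlatMod.IsFinLocFree (Twist.twistProjSpace n k d) := fun x => by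
    obtain ⟨U, hxU, h⟩ := Mero90.isFinLocFreeOfRank_of_isInvertible hL x
    exact ⟨U, 1, hxU, h⟩
  obtain ⟨E⟩ := nonempty_ext_equiv_HH hloc (omega n k) q
  have hs := Pn71.subsingleton_hh n k (eω n - d) q (fun h => by omega)
    (fun h => by have := h.2; simp only [eω] at *; omega)
  have : Subsingleton (Coh.HH (CohB1.ProjSpace n k) (homMod (Twist.twistProjSpace n k d) (omega n k)) q) :=
    (hEquiv k (e ≪≫ e') q).toEquiv.subsingleton
  exact E.toEquiv.subsingleton

variable {d : ℤ} {b : ℕ}

/-- The sum of copies of `O(d)`. -/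
abbrev sumTwist (d : ℤ) (b : ℕ) : (CohB1.ProjSpace n k).Modules :=
  ∐ fun _ : Fin b => Twist.twistProjSpace n k d

theorem isCoh_sumTwist : Coh.IsCoh (sumTwist n k d b) :=
  QC70.isCoh_of_iso (biproduct.isoCoproduct _)
    (QC70.isCoh_biproduct _ fun _ => Amp73.isCoh_of_isInvertible (Var76.Reg.isInvertible_twist d))

theorem isFinLocFree_sumTwist : FlatMod.IsFinLocFree (sumTwist n k d b) :=
  isFinLocFree_sigma _ fun _ => Var76.Reg.isInvertible_twist d

theorem subsingleton_hh_sumTwist (hd : d ≤ eω n) {i : ℕ} (hi : i < n) :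
    Subsingleton (Coh.HH (CohB1.ProjSpace n k) (sumTwist n k d b) i) := by
  refine subsingleton_of_forall_eq 0 fun y => ?_
  obtain ⟨z, rfl⟩ := hmap_sigma_total (A := k) (fun _ : Fin b => Twist.twistProjSpace n k d) i y
  have : Subsingleton (Coh.HH (CohB1.ProjSpace n k) (Twist.twistProjSpace n k d) i) :=
    Pn71.subsingleton_hh n k d i (fun h => by have := h.2; simp only [eω] at *; omega) (fun h => by omega)
  exact Finset.sum_eq_zero fun l _ => by rw [Subsingleton.elim (z l) 0, map_zero]

theorem subsingleton_ext_sumTwist [HasExt.{u} (CohB1.ProjSpace n k).Modules] (hd : d ≤ eω n) {q : ℕ} (hq : 0 < q) :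
    Subsingleton (Abelian.Ext.{u} (sumTwist n k d b) (omega n k) q) :=
  subsingleton_ext_sigma _ _ q fun _ => subsingleton_ext_twist n k hd hq

theorem subsingleton_hh_hom_sumTwist (hd : d ≤ eω n) {q : ℕ} (hq : 0 < q) :
    Subsingleton (Coh.HH (CohB1.ProjSpace n k) (homMod (sumTwist n k d b) (omega n k)) q) := by
  haveI : HasExt.{u} (CohB1.ProjSpace n k).Modules :=
    (inferInstance : HasExt.{u} (ModSite.Mod (CohB1.ProjSpace n k).sheaf))
  obtain ⟨E⟩ := nonempty_ext_equiv_HH (isFinLocFree_sumTwist (d := d) (b := b) n k) (omega n k) q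
  have := subsingleton_ext_sumTwist (d := d) (b := b) n k hd hq
  exact E.symm.toEquiv.subsingleton

/-- The dimension count in a four-term exact sequence. -/
theorem finrank_four {A B C D : Type*} [AddCommGroup A] [Module k A] [AddCommGroup B] [Module k B]
    [AddCommGroup C] [Module k C] [AddCommGroup D] [Module k D] [Module.Finite k B] [Module.Finite k C]
    (f : A →ₗ[k] B) (g : B →ₗ[k] C) (h : C →ₗ[k] D) (hf : Function.Injective f)
    (hfg : Function.Exact f g) (hgh : Function.Exact g h) (hh : Function.Surjective h) :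
    Module.finrank k A + Module.finrank k C = Module.finrank k B + Module.finrank k D := by
  have h1 := LinearMap.finrank_range_add_finrank_ker g
  have h2 := LinearMap.finrank_range_add_finrank_ker h
  rw [LinearMap.exact_iff.mp hfg, LinearMap.finrank_range_of_inj hf] at h1
  rw [LinearMap.exact_iff.mp hgh, LinearMap.range_eq_top.mpr hh, finrank_top] at h2
  omega

theorem finrank_head {X : Scheme.{u}} [X.Over (Spec (CommRingCat.of k))] {S : ShortComplex X.Modules}
    (hS : S.ShortExact) [Module.Finite k (Coh.HH X S.X₂ 0)] [Module.Finite k (Coh.HH X S.X₃ 0)]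
    (h : Subsingleton (Coh.HH X S.X₂ 1)) :
    Module.finrank k (Coh.HH X S.X₁ 0) + Module.finrank k (Coh.HH X S.X₃ 0) =
      Module.finrank k (Coh.HH X S.X₂ 0) + Module.finrank k (Coh.HH X S.X₁ 1) :=
  finrank_four k _ _ (hδ k hS 0) (injective_f_zero k hS) (exact_f_g k hS 0) (exact_g_δ k hS 0)
    fun y => (exact_δ_f k hS 0 y).1 (h.elim _ _)

theorem finrank_tail {X : Scheme.{u}} [X.Over (Spec (CommRingCat.of k))] {S : ShortComplex X.Modules}
    (hS : S.ShortExact) (m : ℕ) [Module.Finite k (Coh.HH X S.X₁ (m + 1))]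
    [Module.Finite k (Coh.HH X S.X₂ (m + 1))]
    (h : Subsingleton (Coh.HH X S.X₂ m)) (h' : Subsingleton (Coh.HH X S.X₁ (m + 1 + 1))) :
    Module.finrank k (Coh.HH X S.X₃ m) + Module.finrank k (Coh.HH X S.X₂ (m + 1)) =
      Module.finrank k (Coh.HH X S.X₁ (m + 1)) + Module.finrank k (Coh.HH X S.X₃ (m + 1)) :=
  finrank_four k (hδ k hS m) _ _
    ((injective_iff_map_eq_zero _).2 fun x hx => by
      obtain ⟨y, rfl⟩ := (exact_g_δ k hS m x).1 hx
      rw [h.elim y 0, map_zero])
    (exact_δ_f k hS m) (exact_f_g k hS (m + 1))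
    fun y => (exact_g_δ k hS (m + 1) y).1 (h'.elim _ _)

theorem finrank_shift {X : Scheme.{u}} [X.Over (Spec (CommRingCat.of k))] {S : ShortComplex X.Modules}
    (hS : S.ShortExact) (m : ℕ) (h : Subsingleton (Coh.HH X S.X₂ m))
    (h' : Subsingleton (Coh.HH X S.X₂ (m + 1))) :
    Module.finrank k (Coh.HH X S.X₃ m) = Module.finrank k (Coh.HH X S.X₁ (m + 1)) :=
  LinearEquiv.finrank_eq (LinearEquiv.ofBijective (hδ k hS m)
    ⟨(injective_iff_map_eq_zero _).2 fun x hx => by
      obtain ⟨y, rfl⟩ := (exact_g_δ k hS m x).1 hx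
      rw [h.elim y 0, map_zero],
    fun y => (exact_δ_f k hS m y).1 (h'.elim _ _)⟩)

section Step

variable {X : Scheme.{u}} [X.Over (Spec (CommRingCat.of k))] {E F K : X.Modules} {i : K ⟶ E} {p : E ⟶ F}
  {w : i ≫ p = 0}

theorem hom_head (hS : (ShortComplex.mk i p w).ShortExact) (hF : FlatMod.IsFinLocFree F) (P : X.Modules)
    (i1 : Module.Finite k (Coh.HH X (homMod E P) 0)) (i2 : Module.Finite k (Coh.HH X (homMod K P) 0))
    (h : Subsingleton (Coh.HH X (homMod E P) 1)) :
    Module.finrank k (Coh.HH X (homMod F P) 0) + Module.finrank k (Coh.HH X (homMod K P) 0) =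
      Module.finrank k (Coh.HH X (homMod E P) 0) + Module.finrank k (Coh.HH X (homMod F P) 1) := by
  have hT : (ShortComplex.mk (X₁ := homMod F P) (X₂ := homMod E P) (X₃ := homMod K P)
      ((homComap p).app P) ((homComap i).app P)
      (homComap_comp_eq_zero (S := ShortComplex.mk i p w) P)).ShortExact :=
    shortExact_homComap_of_locFree hS hF P
  exact @finrank_head k _ X _ (ShortComplex.mk (X₁ := homMod F P) (X₂ := homMod E P) (X₃ := homMod K P)
      ((homComap p).app P) ((homComap i).app P)
      (homComap_comp_eq_zero (S := ShortComplex.mk i p w) P)) hT i1 i2 h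

theorem hom_shift (hS : (ShortComplex.mk i p w).ShortExact) (hF : FlatMod.IsFinLocFree F) (P : X.Modules)
    (m : ℕ) (h : Subsingleton (Coh.HH X (homMod E P) m))
    (h' : Subsingleton (Coh.HH X (homMod E P) (m + 1))) :
    Module.finrank k (Coh.HH X (homMod K P) m) = Module.finrank k (Coh.HH X (homMod F P) (m + 1)) := by
  have hT : (ShortComplex.mk (X₁ := homMod F P) (X₂ := homMod E P) (X₃ := homMod K P)
      ((homComap p).app P) ((homComap i).app P)
      (homComap_comp_eq_zero (S := ShortComplex.mk i p w) P)).ShortExact :=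
    shortExact_homComap_of_locFree hS hF P
  exact finrank_shift k hT m h h'

end Step

theorem finrank_hh_hom_eq : ∀ (j : ℕ) (F : (CohB1.ProjSpace n k).Modules), Coh.IsCoh F →
    FlatMod.IsFinLocFree F → j ≤ n →
    Module.finrank k (Coh.HH (CohB1.ProjSpace n k) (homMod F (omega n k)) j) =
      Module.finrank k (Coh.HH (CohB1.ProjSpace n k) F (n - j))
  | 0, F, hF, _, _ => by
    rw [Nat.sub_zero]
    exact (LinearEquiv.finrank_eq (LinearEquiv.ofBijective _ (bijective_dualMapLin n k hF))).trans
      Subspace.dual_finrank_eq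
  | j + 1, F, hF, hF', hj => by
    obtain ⟨d, b, p, hd, hp⟩ := exists_presentation n k F hF
    have hE := isCoh_sumTwist (d := d) (b := b) n k
    have hE' := isFinLocFree_sumTwist (d := d) (b := b) n k
    have hK : Coh.IsCoh (kernel p) := QC70.isCoh_kernel p hE hF.1
    have hK' := isFinLocFree_kernel hE hF hE' hF' p
    have hS : (ShortComplex.mk (kernel.ι p) p (kernel.condition p)).ShortExact :=
      Var76.Reg.KData.kernel_shortExact p
    have ih := finrank_hh_hom_eq j (kernel p) hK hK' (by omega)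
    have hw : Coh.IsCoh (omega n k) := Amp73.isCoh_of_isInvertible (Var76.Reg.isInvertible_twist _)
    obtain ⟨m, hm⟩ : ∃ m, n = m + 1 + j := ⟨n - j - 1, by omega⟩
    have hEm : Subsingleton (Coh.HH (CohB1.ProjSpace n k) (sumTwist n k d b) m) :=
      subsingleton_hh_sumTwist n k hd (by omega)
    rw [show n - (j + 1) = m by omega]
    rw [show n - j = m + 1 by omega] at ih
    match j, ih, hm with
    | 0, ih, hm =>
      haveI i1 := finite_hh n k _ (isCoh_homMod hE hw) 0
      haveI i2 := finite_hh n k _ (isCoh_homMod hK hw) 0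
      haveI i3 := finite_hh n k _ hK (m + 1)
      haveI i4 := finite_hh n k _ hE (m + 1)
      have h1 : Module.finrank k (Coh.HH (CohB1.ProjSpace n k) (homMod F (omega n k)) 0) +
          Module.finrank k (Coh.HH (CohB1.ProjSpace n k) (homMod (kernel p) (omega n k)) 0) =
          Module.finrank k (Coh.HH (CohB1.ProjSpace n k) (homMod (sumTwist n k d b) (omega n k)) 0) +
            Module.finrank k (Coh.HH (CohB1.ProjSpace n k) (homMod F (omega n k)) 1) :=
        hom_head k hS hF' _ i1 i2
          (subsingleton_hh_hom_sumTwist (d := d) (b := b) n k hd Nat.one_pos)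
      have h2 : Module.finrank k (Coh.HH (CohB1.ProjSpace n k) F m) +
          Module.finrank k (Coh.HH (CohB1.ProjSpace n k) (sumTwist n k d b) (m + 1)) =
          Module.finrank k (Coh.HH (CohB1.ProjSpace n k) (kernel p) (m + 1)) +
            Module.finrank k (Coh.HH (CohB1.ProjSpace n k) F (m + 1)) :=
        @finrank_tail k _ _ _ _ hS m i3 i4 hEm
          (Var76.Reg.subsingleton_hh_gt n k (kernel p) hK.1 (m + 1 + 1) (by omega))
      have e1 : ∀ M, Coh.IsCoh M → Module.finrank k (Coh.HH (CohB1.ProjSpace n k) (homMod M (omega n k)) 0) =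
          Module.finrank k (Coh.HH (CohB1.ProjSpace n k) M (m + 1)) := fun M hM => by
        rw [show m + 1 = n by omega]
        exact (LinearEquiv.finrank_eq (LinearEquiv.ofBijective _ (bijective_dualMapLin n k hM))).trans
          Subspace.dual_finrank_eq
      have := e1 _ hE
      have := e1 _ hF
      show Module.finrank k (Coh.HH (CohB1.ProjSpace n k) (homMod F (omega n k)) 1) = _
      omega
    | j + 1, ih, hm =>
      have e1 : Module.finrank k (Coh.HH (CohB1.ProjSpace n k) (homMod (kernel p) (omega n k)) (j + 1)) =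
          Module.finrank k (Coh.HH (CohB1.ProjSpace n k) (homMod F (omega n k)) (j + 1 + 1)) :=
        hom_shift k hS hF' _ (j + 1) (subsingleton_hh_hom_sumTwist (d := d) (b := b) n k hd j.succ_pos)
          (subsingleton_hh_hom_sumTwist (d := d) (b := b) n k hd (j + 1).succ_pos)
      have e2 : Module.finrank k (Coh.HH (CohB1.ProjSpace n k) F m) =
          Module.finrank k (Coh.HH (CohB1.ProjSpace n k) (kernel p) (m + 1)) :=
        finrank_shift k hS m hEm (subsingleton_hh_sumTwist n k hd (by omega))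
      omega

end Groth.Agent.SerreD94
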