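import Groth.Agent.SerreD94.Hom
import Groth.Agent.Crv77.HH

/-!
# The pairing between `Hom(O(d), O(-n-1))` and the top cohomology of `O(d)`
-/

universe u

open CategoryTheory Limits AlgebraicGeometry TopologicalSpace Opposite

set_option autoImplicit false
set_option maxSynthPendingDepth 6
set_option maxHeartbeats 1000000
set_option synthInstance.maxHeartbeats 400000

noncomputable section

namespace Groth.Agent.SerreD94

open Pn71

variable (n : ℕ) (A : Type u) [CommRing A]

/-- The degree of the dualising twist. -/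
abbrev eω : ℤ := -((n : ℤ) + 1)

/-- The exponent `(-1, …, -1)`. -/
def m₀ : Fin (n + 1) →₀ ℤ := Finsupp.equivFunOnFinite.symm fun _ => -1

theorem m₀_apply (i : Fin (n + 1)) : m₀ n i = -1 := by simp [m₀]

theorem deg_m₀ : deg (m₀ n) = eω n := by simp [deg, m₀, eω]

theorem negCell_eω : negCell (ι := Fin (n + 1)) (eω n) = {m₀ n} := by
  ext m
  constructor
  · rintro ⟨hd, hn⟩
    refine Finsupp.ext fun i => ?_
    rw [m₀_apply]
    by_contra hne
    have hlt : m i < -1 := by have := hn i; omega
    have h : deg m < deg (m₀ n) := Finset.sum_lt_sum (fun l _ => by have := hn l; rw [m₀_apply]; omega)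
      ⟨i, Finset.mem_univ i, by rw [m₀_apply]; exact hlt⟩
    rw [hd, deg_m₀] at h
    exact lt_irrefl _ h
  · rintro rfl
    exact ⟨deg_m₀ n, fun i => by rw [m₀_apply]; omega⟩

variable {n A}

/-- Multiplication by a polynomial, as a morphism of modules on projective space. -/
def mulP {d e : ℤ} {j : ℕ} (f : CohB1.polyGrading n A j) (h : e = d + j) :
    Twist.twistProjSpace n A d ⟶ Twist.twistProjSpace n A e :=
  mulTwist f h

theorem exists_eq_mulP {d e : ℤ} {j : ℕ} (φ : Twist.twistProjSpace n A d ⟶ Twist.twistProjSpace n A e)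
    (h : e = d + j) : ∃ f : CohB1.polyGrading n A j, φ = mulP f h :=
  exists_eq_mulTwist φ h

/-- Exponents of polynomials among Laurent exponents. -/
abbrev cst (s : Fin (n + 1) →₀ ℕ) : Fin (n + 1) →₀ ℤ :=
  Finsupp.mapRange.addMonoidHom (Nat.castAddMonoidHom ℤ) s

theorem coeff_toL_mul (f : MvPolynomial (Fin (n + 1)) A) (v : LPoly n A) (m : Fin (n + 1) →₀ ℤ) :
    (toL n A f * v).coeff m = ∑ s ∈ f.support, f.coeff s * v.coeff (m - cst s) := by
  conv_lhs => rw [f.as_sum, map_sum, Finset.sum_mul, AddMonoidAlgebra.coeff_sum, Finsupp.finsetSum_apply]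
  refine Finset.sum_congr rfl fun s _ => ?_
  rw [toL_monomial]
  exact AddMonoidAlgebra.coeff_single_mul_eq_mul_coeff (m - cst s) fun a _ =>
    ⟨fun h => by rw [← h]; abel, fun h => by rw [h]; abel⟩

variable (n A) in
theorem hhTopEquiv_toHHLin (d : ℤ) (h0 : n = 0 → d < 0) (z : cocycles A (Fin (n + 1)) d n) :
    hhTopEquiv n A d h0 (toHHLin n A d n z) = topEval A d (Equiv.refl (Fin (n + 1))) z := by
  have h1 : (hhEquiv n A d n).symm (toHHLin n A d n z) = Submodule.Quotient.mk z := by
    rw [LinearEquiv.symm_apply_eq]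
    rfl
  rw [hhTopEquiv, LinearEquiv.trans_apply, h1]
  rfl

/-- Multiplication by a homogeneous polynomial on top cohomology. -/
theorem hhTopEquiv_hmap {d e : ℤ} {j : ℕ} (f : CohB1.polyGrading n A j) (h : e = d + j)
    (hd0 : n = 0 → d < 0) (he0 : n = 0 → e < 0)
    (x : Coh.HH (CohB1.ProjSpace n A) (Twist.twistProjSpace n A d) n)
    {m : Fin (n + 1) →₀ ℤ} (hm : m ∈ negCell (ι := Fin (n + 1)) e) :
    (hhTopEquiv n A e he0 (Crv77.hmap (X := CohB1.ProjSpace n A) A (mulP f h) n x)).1 m =
      ∑ s ∈ f.1.support, f.1.coeff s * (hhTopEquiv n A d hd0 x).1 (m - cst s) := by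
  classical
  obtain ⟨z, rfl⟩ := toHHLin_surjective n A d n x
  let w : CechComp71.MZ (stdU n A) (Twist.twistProjSpace n A d) n := (cocycleEquiv n A d n).symm z
  let φ : Coh.toAb (Twist.twistProjSpace n A d) ⟶ Coh.toAb (Twist.twistProjSpace n A e) :=
    (Crv77.toAbF (CohB1.ProjSpace n A)).map (mulP f h)
  let z' : cocycles A (Fin (n + 1)) e n := cocycleEquiv n A e n (CechComp71.zmap φ n w)
  have h2 : Crv77.hmap (X := CohB1.ProjSpace n A) A (mulP f h) n (toHHLin n A d n z) = toHHLin n A e n z' := by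
    refine (CechComp71.toHH_natural (stdU n A) (iSup_stdU n A) φ n w).symm.trans ?_
    change _ = CechComp71.toHH (stdU n A) (iSup_stdU n A) _ n ((cocycleEquiv n A e n).symm z')
    rw [AddEquiv.symm_apply_apply]
  have h3 : ∀ σ, AddMonoidAlgebra.ofCoeff (z'.1 σ) =
      toL n A f.1 * AddMonoidAlgebra.ofCoeff (z.1 σ) := by
    intro σ
    have hz : (cochainEquiv n A d n w.1).1 = z.1 :=
      congrArg Subtype.val ((cocycleEquiv n A d n).apply_symm_apply z)
    rw [← hz]
    change L (compEquiv n A e σ (φ.hom.app _ (w.1 (up σ)))) =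
      toL n A f.1 * L (compEquiv n A d σ (w.1 (up σ)))
    rw [← L_mulFun f h]
    refine congrArg L ?_
    exact (congr($(φ.hom.naturality (homOfLE (cOpen_stdU A σ).ge).op) (w.1 (up σ)))).symm
  rw [h2, hhTopEquiv_toHHLin, topEval_apply, if_pos hm]
  have h4 := congrArg (fun u : LPoly n A => u.coeff m) (h3 (Equiv.refl (Fin (n + 1))))
  refine h4.trans ((coeff_toL_mul _ _ _).trans (Finset.sum_congr rfl fun s hs => ?_))
  refine congrArg _ ?_
  rw [hhTopEquiv_toHHLin, topEval_apply, if_pos]
  · have hdeg : (s.degree : ℤ) = j := by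
      refine congrArg _ ?_
      by_contra hc
      exact MvPolynomial.mem_support_iff.1 hs (MvPolynomial.IsHomogeneous.coeff_eq_zero f.2 hc)
    rw [Finsupp.degree_eq_sum, Nat.cast_sum] at hdeg
    refine ⟨?_, fun i => ?_⟩
    · have := hm.1
      simp only [deg] at this ⊢
      simp only [Finsupp.sub_apply, Finset.sum_sub_distrib, Finsupp.mapRange.addMonoidHom_apply,
        Finsupp.mapRange_apply, Nat.coe_castAddMonoidHom, hdeg, this]
      omega
    · have := hm.2 i
      simp only [Finsupp.sub_apply, Finsupp.mapRange.addMonoidHom_apply, Finsupp.mapRange_apply,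
        Nat.coe_castAddMonoidHom]
      omega

variable (n A)

theorem h0_eω : n = 0 → eω n < 0 := fun _ => by simp only [eω]; omega

/-- The trace on `H^n(O(-n-1))`. -/
def trace : Coh.HH (CohB1.ProjSpace n A) (Twist.twistProjSpace n A (eω n)) n →ₗ[A] A :=
  (Finsupp.lapply (m₀ n)).comp ((Finsupp.supported A A (negCell (ι := Fin (n + 1)) (eω n))).subtype.comp
    (hhTopEquiv n A (eω n) (h0_eω n)).toLinearMap)

theorem trace_apply (x : Coh.HH (CohB1.ProjSpace n A) (Twist.twistProjSpace n A (eω n)) n) :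
    trace n A x = (hhTopEquiv n A (eω n) (h0_eω n) x).1 (m₀ n) := rfl

theorem trace_bijective : Function.Bijective (trace n A) := by
  refine ⟨fun x y hxy => (hhTopEquiv n A (eω n) (h0_eω n)).injective (Subtype.ext (Finsupp.ext fun m => ?_)),
    fun a => ⟨(hhTopEquiv n A (eω n) (h0_eω n)).symm
      ⟨Finsupp.single (m₀ n) a, Finsupp.single_mem_supported A a (by rw [negCell_eω]; rfl)⟩, ?_⟩⟩
  · by_cases hm : m ∈ negCell (ι := Fin (n + 1)) (eω n)
    · rw [negCell_eω] at hm
      subst hm
      exact hxy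
    · rw [(Finsupp.mem_supported' _ _).1 (hhTopEquiv n A _ _ x).2 m hm,
        (Finsupp.mem_supported' _ _).1 (hhTopEquiv n A _ _ y).2 m hm]
  · rw [trace_apply, LinearEquiv.apply_symm_apply]
    exact Finsupp.single_eq_same

/-- The pairing with a polynomial. -/
theorem trace_mulTwist {d : ℤ} {j : ℕ} (f : CohB1.polyGrading n A j) (h : eω n = d + j)
    (hd0 : n = 0 → d < 0) (x : Coh.HH (CohB1.ProjSpace n A) (Twist.twistProjSpace n A d) n) :
    trace n A (Crv77.hmap (X := CohB1.ProjSpace n A) A (mulP f h) n x) =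
      ∑ s ∈ f.1.support, f.1.coeff s * (hhTopEquiv n A d hd0 x).1 (m₀ n - cst s) :=
  hhTopEquiv_hmap f h hd0 (h0_eω n) x (by rw [negCell_eω]; rfl)

/-- Morphisms `O(d) ⟶ O(-n-1)` are dual to `H^n(O(d))` for `d ≤ -n-1`. -/
theorem existsUnique_hom {d : ℤ} (hd : d ≤ eω n)
    (ψ : Coh.HH (CohB1.ProjSpace n A) (Twist.twistProjSpace n A d) n →ₗ[A] A) :
    ∃! φ : Twist.twistProjSpace n A d ⟶ Twist.twistProjSpace n A (eω n),
      ∀ x, ψ x = trace n A (Crv77.hmap (X := CohB1.ProjSpace n A) A φ n x) := by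
  classical
  obtain ⟨j, hj⟩ := Int.le.dest hd
  have h : eω n = d + j := hj.symm
  have hd0 : n = 0 → d < 0 := fun h0 => by have := h0_eω n h0; omega
  let E := hhTopEquiv n A d hd0
  let pt : ∀ w : negCell (ι := Fin (n + 1)) d,
      Coh.HH (CohB1.ProjSpace n A) (Twist.twistProjSpace n A d) n :=
    fun w => E.symm ⟨Finsupp.single w.1 1, Finsupp.single_mem_supported A 1 w.2⟩
  let ex : negCell (ι := Fin (n + 1)) d → (Fin (n + 1) →₀ ℕ) := fun w =>
    Finsupp.equivFunOnFinite.symm fun i => (-w.1 i - 1).toNat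
  have hex : ∀ w : negCell (ι := Fin (n + 1)) d, m₀ n - cst (ex w) = w.1 := fun w => Finsupp.ext fun i => by
    have := w.2.2 i
    simp [ex, m₀_apply]
    omega
  have hexdeg : ∀ w : negCell (ι := Fin (n + 1)) d, (ex w).degree = j := fun w => by
    have h1 := congrArg deg (hex w)
    rw [w.2.1] at h1
    simp only [deg, Finsupp.sub_apply, Finset.sum_sub_distrib, Finsupp.mapRange.addMonoidHom_apply,
      Finsupp.mapRange_apply, Nat.coe_castAddMonoidHom, ← Nat.cast_sum] at h1
    have h2 := deg_m₀ n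
    simp only [deg] at h2
    rw [Finsupp.degree_eq_sum]
    omega
  have := (finite_negCell (ι := Fin (n + 1)) d).fintype
  let f : CohB1.polyGrading n A j := ⟨∑ w : negCell (ι := Fin (n + 1)) d,
    MvPolynomial.monomial (ex w) (ψ (pt w)),
    Submodule.sum_mem _ fun w _ => MvPolynomial.isHomogeneous_monomial _ (hexdeg w)⟩
  have hexinj : Function.Injective ex := fun w w' hw => Subtype.ext (by rw [← hex w, ← hex w', hw])
  have hcoeff : ∀ w, f.1.coeff (ex w) = ψ (pt w) := fun w => by
    simp only [f, MvPolynomial.coeff_sum, MvPolynomial.coeff_monomial, hexinj.eq_iff,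
      Finset.sum_ite_eq', Finset.mem_univ, if_true]
  have hsupp : f.1.support ⊆ Finset.univ.image ex := fun s hs => by
    by_contra hns
    refine MvPolynomial.mem_support_iff.1 hs ?_
    simp only [f, MvPolynomial.coeff_sum, MvPolynomial.coeff_monomial]
    exact Finset.sum_eq_zero fun w _ => if_neg fun e =>
      hns (Finset.mem_image.2 ⟨w, Finset.mem_univ w, e⟩)
  have key : ∀ (g : CohB1.polyGrading n A j) (w : negCell (ι := Fin (n + 1)) d),
      trace n A (Crv77.hmap (X := CohB1.ProjSpace n A) A (mulP g h) n (pt w)) = g.1.coeff (ex w) := fun g w => by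
    rw [trace_mulTwist n A g h hd0]
    simp only [pt, E, LinearEquiv.apply_symm_apply, Finsupp.single_apply, mul_ite, mul_one, mul_zero]
    rw [Finset.sum_eq_single (ex w) (fun s _ hs => if_neg fun e => hs ?_) (fun hns => ?_),
      if_pos (hex w).symm]
    · apply mapRange_cast_injective n
      exact sub_right_injective (e.symm.trans (hex w).symm)
    · rw [if_pos (hex w).symm, MvPolynomial.notMem_support_iff.1 hns]
  refine ⟨mulP f h, fun x => ?_, fun φ hφ => ?_⟩
  · have hx : x = ∑ w : negCell (ι := Fin (n + 1)) d, (E x).1 w.1 • pt w := by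
      refine E.injective (Subtype.ext (Finsupp.ext fun m => ?_))
      rw [map_sum]
      simp only [pt, map_smul, LinearEquiv.apply_symm_apply, Submodule.coe_sum, Submodule.coe_smul,
        Finsupp.finsetSum_apply, Finsupp.smul_apply, Finsupp.single_apply, smul_eq_mul, mul_ite,
        mul_one, mul_zero]
      by_cases hm : m ∈ negCell (ι := Fin (n + 1)) d
      · rw [Finset.sum_eq_single ⟨m, hm⟩ (fun w _ hw => if_neg fun e => hw (Subtype.ext e))
          (fun h => absurd (Finset.mem_univ _) h), if_pos rfl]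
      · rw [(Finsupp.mem_supported' _ _).1 (E x).2 m hm]
        exact (Finset.sum_eq_zero fun w _ => if_neg fun e : (w.1 : Fin (n + 1) →₀ ℤ) = m => hm (e ▸ w.2)).symm
    rw [hx, map_sum, map_sum, map_sum]
    refine Finset.sum_congr rfl fun w _ => ?_
    rw [map_smul, map_smul, map_smul, key, hcoeff]
  · obtain ⟨g, rfl⟩ := exists_eq_mulP φ h
    refine congrArg (mulP · h) (Subtype.ext (MvPolynomial.ext _ _ fun s => ?_))
    by_cases hs : s.degree = j
    · have hw : m₀ n - cst s ∈ negCell (ι := Fin (n + 1)) d := by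
        rw [Finsupp.degree_eq_sum] at hs
        refine ⟨?_, fun i => ?_⟩
        · simp only [deg, Finsupp.sub_apply, Finset.sum_sub_distrib, Finsupp.mapRange.addMonoidHom_apply,
            Finsupp.mapRange_apply, Nat.coe_castAddMonoidHom, ← Nat.cast_sum, hs]
          have h2 := deg_m₀ n
          simp only [deg] at h2
          omega
        · simp [m₀_apply]
          omega
      have e : ex ⟨_, hw⟩ = s := by
        apply mapRange_cast_injective n
        exact sub_right_injective (hex ⟨_, hw⟩)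
      rw [← e, hcoeff, ← key g, ← hφ]
    · rw [MvPolynomial.IsHomogeneous.coeff_eq_zero g.2 hs, MvPolynomial.IsHomogeneous.coeff_eq_zero f.2 hs]

end Groth.Agent.SerreD94
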