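import Groth.Agent.SerreD94.FinDual

/-!
# Vanishing of `Ext(F, ω)` on projective space
-/

universe u w v'

open CategoryTheory Limits AlgebraicGeometry TopologicalSpace Opposite CategoryTheory.Abelian

set_option autoImplicit false
set_option maxSynthPendingDepth 6
set_option maxHeartbeats 1000000
set_option synthInstance.maxHeartbeats 400000
set_option backward.isDefEq.respectTransparency.types false

noncomputable section

namespace Groth.Agent.SerreD94

open QC70 Crv77

section Abstract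

variable {C : Type*} [Category.{v'} C] [Abelian C] [HasExt.{w} C] {S : ShortComplex C} (Y : C)

/-- Dimension shift for the contravariant Ext sequence. -/
theorem subsingleton_ext_shift (hS : S.ShortExact) (j : ℕ) (h₁ : Subsingleton (Ext.{w} S.X₂ Y j))
    (h₂ : Subsingleton (Ext.{w} S.X₂ Y (1 + j))) :
    Subsingleton (Ext.{w} S.X₃ Y (1 + j)) ↔ Subsingleton (Ext.{w} S.X₁ Y j) := by
  refine ⟨fun h => subsingleton_of_forall_eq 0 fun x => ?_, fun h => subsingleton_of_forall_eq 0 fun x => ?_⟩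
  · obtain ⟨y, rfl⟩ := Ext.contravariant_sequence_exact₁ hS Y x rfl (h.elim _ _)
    rw [h₁.elim y 0, Ext.comp_zero]
  · obtain ⟨y, rfl⟩ := Ext.contravariant_sequence_exact₃ hS Y x (h₂.elim _ _) rfl
    rw [h.elim y 0, Ext.comp_zero]

/-- `Ext¹(S₃, Y) = 0` iff morphisms to `Y` extend along `S₁ ⟶ S₂`. -/
theorem subsingleton_ext_one_iff (hS : S.ShortExact) (h₂ : Subsingleton (Ext.{w} S.X₂ Y 1)) :
    Subsingleton (Ext.{w} S.X₃ Y 1) ↔ Function.Surjective fun φ : S.X₂ ⟶ Y => S.f ≫ φ := by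
  refine ⟨fun h φ => ?_, fun h => subsingleton_of_forall_eq 0 fun x => ?_⟩
  · obtain ⟨y, hy⟩ := Ext.contravariant_sequence_exact₁ hS Y (Ext.mk₀ φ) (n₁ := 1) rfl (h.elim _ _)
    obtain ⟨ψ, rfl⟩ := (Ext.mk₀_bijective S.X₂ Y).2 y
    rw [Ext.mk₀_comp_mk₀] at hy
    exact ⟨ψ, (Ext.mk₀_bijective _ _).1 hy⟩
  · obtain ⟨y, rfl⟩ := Ext.contravariant_sequence_exact₃ hS Y x (h₂.elim _ _) (n₀ := 0) rfl
    obtain ⟨φ, rfl⟩ := (Ext.mk₀_bijective S.X₁ Y).2 y
    obtain ⟨ψ, rfl⟩ := h φ
    rw [← Ext.mk₀_comp_mk₀, ← Ext.comp_assoc hS.extClass (Ext.mk₀ S.f) (Ext.mk₀ ψ) rfl (zero_add 0) rfl,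
      hS.extClass_comp, Ext.zero_comp]

end Abstract

section Cohomology

variable (k : Type u) [Field k] {X : Scheme.{u}} [X.Over (Spec (CommRingCat.of k))]
  {E F K : X.Modules} {i : K ⟶ E} {p : E ⟶ F} {w : i ≫ p = 0}

include k in
theorem subsingleton_hh_shift (hS : (ShortComplex.mk i p w).ShortExact) (m : ℕ)
    (h₁ : Subsingleton (Coh.HH X E m)) (h₂ : Subsingleton (Coh.HH X E (m + 1))) :
    Subsingleton (Coh.HH X F m) ↔ Subsingleton (Coh.HH X K (m + 1)) := by
  refine ⟨fun h => subsingleton_of_forall_eq 0 fun x => ?_, fun h => subsingleton_of_forall_eq 0 fun x => ?_⟩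
  · obtain ⟨y, rfl⟩ := (exact_δ_f k hS m x).1 (h₂.elim _ _)
    exact (congrArg (hδ k hS m) (h.elim y 0)).trans (map_zero _)
  · obtain ⟨y, rfl⟩ := (exact_g_δ k hS m x).1 (h.elim _ _)
    exact (congrArg (Crv77.hmap k p m) (h₁.elim y 0)).trans (map_zero _)

include k in
theorem subsingleton_hh_iff_injective (hS : (ShortComplex.mk i p w).ShortExact) (m : ℕ)
    (h₁ : Subsingleton (Coh.HH X E m)) :
    Subsingleton (Coh.HH X F m) ↔ Function.Injective (Crv77.hmap k i (m + 1)) := by
  refine ⟨fun h => (injective_iff_map_eq_zero _).2 fun x hx => ?_,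
    fun h => subsingleton_of_forall_eq 0 fun x => ?_⟩
  · obtain ⟨y, rfl⟩ := (exact_δ_f k hS m x).1 hx
    exact (congrArg (hδ k hS m) (h.elim y 0)).trans (map_zero _)
  · obtain ⟨y, rfl⟩ := (exact_g_δ k hS m x).1 (h ((exact_δ_f k hS m).apply_apply_eq_zero x
      |>.trans (map_zero _).symm))
    exact (congrArg (Crv77.hmap k p m) (h₁.elim y 0)).trans (map_zero _)

theorem surjective_precomp_iff {P : X.Modules} {n : ℕ} (t : Coh.HH X P n →ₗ[k] k)
    (hE : Function.Bijective (formOf (F := E) t)) (hK : Function.Bijective (formOf (F := K) t)) :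
    (Function.Surjective fun φ : E ⟶ P => i ≫ φ) ↔ Function.Injective (Crv77.hmap k i n) := by
  rw [← LinearMap.dualMap_surjective_iff]
  have hcomm : ∀ φ : E ⟶ P, formOf t (i ≫ φ) = (Crv77.hmap k i n).dualMap (formOf t φ) := fun φ =>
    LinearMap.ext fun z => congrArg t (hmap_comp k i φ n z).symm
  refine ⟨fun h ψ => ?_, fun h χ => ?_⟩
  · obtain ⟨χ, rfl⟩ := hK.2 ψ
    obtain ⟨φ, rfl⟩ := h χ
    exact ⟨formOf t φ, (hcomm φ).symm⟩
  · obtain ⟨ψ, hψ⟩ := h (formOf t χ)
    obtain ⟨φ, rfl⟩ := hE.2 ψ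
    exact ⟨φ, hK.1 ((hcomm φ).trans hψ)⟩

theorem subsingleton_ext_zero_iff [HasExt.{u} X.Modules] {P : X.Modules} {n : ℕ}
    (t : Coh.HH X P n →ₗ[k] k) (hF : Function.Bijective (formOf (F := F) t)) :
    Subsingleton (Ext.{u} F P 0) ↔ Subsingleton (Coh.HH X F n) := by
  refine ⟨fun h => subsingleton_of_forall_eq 0 fun x => ?_, fun h => ?_⟩
  · refine (Module.forall_dual_apply_eq_zero_iff k x).1 fun ψ => ?_
    obtain ⟨φ, rfl⟩ := hF.2 ψ
    have : φ = 0 := (Ext.mk₀_bijective F P).1 (h.elim _ _)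
    subst this
    exact (congrArg t (hmap_zero n x)).trans (map_zero t)
  · have : Subsingleton (F ⟶ P) := ⟨fun a b => hF.1 (LinearMap.ext fun x => by
      rw [h.elim x 0, map_zero, map_zero])⟩
    exact (Equiv.ofBijective _ (Ext.mk₀_bijective F P)).symm.subsingleton

end Cohomology

variable (n : ℕ) (k : Type u) [Field k]

/-- `Ext^i(F, ω) = 0` iff `H^{n-i}(F) = 0`. -/
theorem subsingleton_ext_iff [HasExt.{u} (CohB1.ProjSpace n k).Modules] :
    ∀ (i : ℕ) (F : (CohB1.ProjSpace n k).Modules), Coh.IsCoh F → i ≤ n →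
      (Subsingleton (Ext.{u} F (omega n k) i) ↔ Subsingleton (Coh.HH (CohB1.ProjSpace n k) F (n - i)))
  | 0, F, hF, _ => subsingleton_ext_zero_iff k _ (bijective_formOf n k hF)
  | i + 1, F, hF, hi => by
    obtain ⟨d, b, p, hd, hp⟩ := exists_presentation n k F hF
    have hE := isCoh_sumTwist (d := d) (b := b) n k
    have hK : Coh.IsCoh (kernel p) := QC70.isCoh_kernel p hE hF.1
    have hS : (ShortComplex.mk (kernel.ι p) p (kernel.condition p)).ShortExact :=
      Var76.Reg.KData.kernel_shortExact p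
    have hExt : ∀ q, 0 < q → Subsingleton (Ext.{u} (sumTwist n k d b) (omega n k) q) := fun q hq =>
      subsingleton_ext_sumTwist n k hd hq
    obtain ⟨m, hm⟩ : ∃ m, n = m + 1 + i := ⟨n - i - 1, by omega⟩
    have hEm : Subsingleton (Coh.HH (CohB1.ProjSpace n k) (sumTwist n k d b) m) :=
      subsingleton_hh_sumTwist n k hd (by omega)
    rw [show n - (i + 1) = m by omega]
    match i, hm with
    | 0, hm =>
      refine (subsingleton_ext_one_iff (omega n k) hS (hExt 1 Nat.one_pos)).trans ?_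
      refine Iff.trans ?_ (subsingleton_hh_iff_injective k hS m hEm).symm
      have hn : n = m + 1 := by omega
      subst hn
      exact surjective_precomp_iff k _ (bijective_formOf _ k hE) (bijective_formOf _ k hK)
    | i + 1, hm =>
      have h := subsingleton_ext_shift (omega n k) hS (i + 1) (hExt _ (by omega)) (hExt _ (by omega))
      rw [show 1 + (i + 1) = i + 1 + 1 by omega] at h
      refine h.trans ((subsingleton_ext_iff (i + 1) (kernel p) hK (by omega)).trans ?_)
      rw [show n - (i + 1) = m + 1 by omega]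
      exact (subsingleton_hh_shift k hS m hEm (subsingleton_hh_sumTwist n k hd (by omega))).symm

end Groth.Agent.SerreD94
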