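import Groth.Agent.SerreD94.Split
import Groth.Agent.SerreD94.ExtVanish
import Groth.Agent.GSS45.ClosedRight
import Groth.Agent.Props58.LocFree.Criteria
import Groth.Agent.Curves2.ProjLine
import Groth.Agent.Var76.OmegaRegular

/-!
# Horrocks' criterion
-/

universe u

open CategoryTheory Limits AlgebraicGeometry TopologicalSpace Opposite

set_option autoImplicit false
set_option maxSynthPendingDepth 6
set_option maxHeartbeats 1000000
set_option synthInstance.maxHeartbeats 400000
set_option backward.isDefEq.respectTransparency.types false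

noncomputable section

namespace Groth.Agent.SerreD94

open Crv77 Var76.Reg Props58.LocFree QC70

theorem finrank_stalk_of_rank {X : Scheme.{u}} {M : X.Modules} {r : ℕ}
    (h : FlatMod.IsFinLocFreeOfRank r M) (x : X) :
    Module.finrank (X.presheaf.stalk x) (M.presheaf.stalk x) = r := by
  obtain ⟨U, hx, ⟨e⟩⟩ := h x
  obtain ⟨s, hs⟩ := exists_stalkBasis_of_iso e
  let L := Fintype.linearCombination (X.presheaf.stalk x) (fun i => germM M U x hx (s i))
  have hL : Function.Bijective L := hs x hx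
  rw [← (LinearEquiv.ofBijective L hL).finrank_eq, Module.finrank_fin_fun]

theorem isFinLocFreeOfRank_sigma {X : Scheme.{u}} {r : ℕ} (N : Fin r → X.Modules)
    (h : ∀ l, PicF.IsInvertible (N l)) : FlatMod.IsFinLocFreeOfRank r (∐ N) := fun x => by
  choose W hxW hW using fun j => h j x
  let U : X.Opens := ⟨⋂ j, (W j : Set X), isOpen_iInter_of_finite fun j => (W j).2⟩
  have hle : ∀ j, U ≤ W j := fun j z hz => Set.mem_iInter.1 hz j
  let e := fun j => (EGA73.nonempty_restrict_iso_unit_of_le (hle j) (hW j)).some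
  have : PreservesColimitsOfSize.{0, 0} (Scheme.Modules.restrictFunctor U.ι) :=
    (Scheme.Modules.restrictAdjunction U.ι).leftAdjoint_preservesColimits
  exact ⟨U, Set.mem_iInter.2 hxW,
    ⟨PreservesCoproduct.iso (Scheme.Modules.restrictFunctor U.ι) N ≪≫ Sigma.mapIso fun j => e j⟩⟩

variable {n : ℕ} {k : Type u} [Field k]

theorem exists_low {E : (CohB1.ProjSpace n k).Modules} (hE : FlatMod.IsFinLocFree E) (hn : 1 ≤ n) :
    ∃ n₀ : ℤ, ∀ t : ℤ, t ≤ n₀ → Subsingleton (Coh.HH (CohB1.ProjSpace n k) (tw n k E t) 0) := by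
  haveI : HasExt.{u} (CohB1.ProjSpace n k).Modules :=
    (inferInstance : HasExt.{u} (ModSite.Mod (CohB1.ProjSpace n k).sheaf))
  have hEc : Coh.IsCoh E := ⟨isQuasicoherent_of_isFinLocFree hE, isFiniteType_of_isFinLocFree hE⟩
  have hw : Coh.IsCoh (omega n k) := Amp73.isCoh_of_isInvertible (isInvertible_twist _)
  obtain ⟨J, hJ⟩ := exists_vanish (homMod E (omega n k)) (isCoh_homMod hEc hw)
  refine ⟨-J, fun t ht => ?_⟩
  let L := Twist.twistProjSpace n k t
  have hM : Coh.IsCoh (CohB1.tensorMod L E) :=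
    Amp73.isCoh_tensorMod (Amp73.isCoh_of_isInvertible (isInvertible_twist t)) hEc
  have hmain := (subsingleton_ext_iff n k n (CohB1.tensorMod L E) hM le_rfl).1 ?_
  · rw [Nat.sub_self] at hmain
    exact ValVan29.subsingleton_hh_of_iso (EGA73.tensComm L E) 0 hmain
  obtain ⟨A⟩ := GSS45.ClosedRight.nonempty_ext_tensor E L (omega n k) hE n
  have hLf : FlatMod.IsFinLocFree L := fun x => by
    obtain ⟨U, hxU, h⟩ := Mero90.isFinLocFreeOfRank_of_isInvertible (isInvertible_twist t) x
    exact ⟨U, 1, hxU, h⟩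
  obtain ⟨B⟩ := nonempty_ext_equiv_HH hLf (homMod E (omega n k)) n
  obtain ⟨e0⟩ := nonempty_twist_zero (n := n) (A := k)
  obtain ⟨i⟩ := nonempty_twist_add (n := n) (A := k) (a := t) (b := -t) (add_neg_cancel t)
  obtain ⟨i'⟩ := nonempty_twist_add (n := n) (A := k) (a := -t) (b := t) (neg_add_cancel t)
  obtain ⟨e⟩ := nonempty_homMod_of_inverse (i ≪≫ e0) (i' ≪≫ e0) (homMod E (omega n k))
  have := ValVan29.subsingleton_hh_of_iso e.symm n (hJ (-t) (by omega) n hn)
  exact (A.trans B).toEquiv.subsingleton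

theorem horrocks {r : ℕ} {E : (CohB1.ProjSpace n k).Modules} (hE : FlatMod.IsFinLocFreeOfRank r E) :
    (∃ a : Fin r → ℤ, Nonempty (E ≅ ∐ fun j : Fin r => Twist.twistProjSpace n k (a j))) ↔
      ∀ (i : ℕ) (t : ℤ), 0 < i → i < n →
        Subsingleton (Coh.HH (CohB1.ProjSpace n k) (tw n k E t) i) := by
  have hE' : FlatMod.IsFinLocFree E := fun x => by
    obtain ⟨U, hxU, h⟩ := hE x
    exact ⟨U, r, hxU, h⟩
  have hEc : Coh.IsCoh E := ⟨isQuasicoherent_of_isFinLocFree hE', isFiniteType_of_isFinLocFree hE'⟩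
  refine ⟨fun ⟨a, ⟨e⟩⟩ i t h1 h2 => (hyp_of_iso a hEc e).mid t i h1 h2, fun h => ?_⟩
  obtain ⟨r', a, ⟨e⟩⟩ := exists_iso_coprod_twists (d := n) (k := k) (F := E)
    ⟨hEc, exists_low hE', fun t i h1 h2 => h i t h1 h2⟩
  obtain rfl : r = r' := by
    haveI : IsIntegral (CohB1.ProjSpace n k) := Curves2.ProjLine.isIntegral k n
    obtain ⟨x⟩ : Nonempty (CohB1.ProjSpace n k) := inferInstance
    refine (finrank_stalk_of_rank hE x).symm.trans ?_
    have h' : FlatMod.IsFinLocFreeOfRank r' E :=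
      Var76.OmegaRegular.isFinLocFreeOfRank_of_iso e.symm
        (isFinLocFreeOfRank_sigma _ fun _ => isInvertible_twist _)
    exact finrank_stalk_of_rank h' x
  exact ⟨a, ⟨e⟩⟩

end Groth.Agent.SerreD94
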