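import Groth.Agent.EGA73.TwistInvertible
import Groth.Agent.Pn71.PolySections

/-!
# Multiplication by homogeneous elements between twisting sheaves
-/

universe u

open CategoryTheory Limits AlgebraicGeometry TopologicalSpace Opposite

set_option autoImplicit false

noncomputable section

namespace Groth.Agent.SerreD94

variable {R S : Type u} [CommRing R] [CommRing S] [Algebra R S] {𝒜 : ℕ → Submodule R S}
  [GradedAlgebra 𝒜] {j : ℕ} (f : 𝒜 j) {d e : ℤ} (h : e = d + j)

/-- `f` as an element of a stalk ring. -/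
abbrev one' (x : ProjectiveSpectrum 𝒜) : x.asHomogeneousIdeal.toIdeal.primeCompl := 1

include h in
theorem mul_mem_twistAt (x : ProjectiveSpectrum 𝒜) {q : Twist.Loc 𝒜 x}
    (hq : q ∈ Twist.twistAt 𝒜 d x) :
    Localization.mk f.1 (one' x) * q ∈ Twist.twistAt 𝒜 e x := by
  induction hq using Submodule.span_induction with
  | zero => rw [mul_zero]; exact zero_mem _
  | add q q' _ _ hq hq' => rw [mul_add]; exact add_mem hq hq'
  | smul c q _ hq => rw [mul_smul_comm]; exact Submodule.smul_mem _ c hq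
  | mem q hq =>
    obtain ⟨i, i', a, s, hs, hi, rfl⟩ := hq
    refine Submodule.subset_span ⟨j + i, i', ⟨f.1 * a.1, SetLike.mul_mem_graded f.2 a.2⟩, s, hs,
      by push_cast; omega, ?_⟩
    rw [Localization.mk_mul, one_mul]

/-- Multiplication by `f` on sections. -/
def mulFun (U : (Opens (ProjectiveSpectrum.top 𝒜))ᵒᵖ) (s : Twist.sectN (𝒜 := 𝒜) d U) :
    Twist.sectN (𝒜 := 𝒜) e U :=
  ⟨fun x => ⟨Localization.mk f.1 (one' x.1) * (s.1 x).1, mul_mem_twistAt f h x.1 (s.1 x).2⟩,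
    fun x => by
      obtain ⟨V, hxV, iV, i, i', a, t, ht, hdeg, hs⟩ := s.2 x
      refine ⟨V, hxV, iV, j + i, i', ⟨f.1 * a.1, SetLike.mul_mem_graded f.2 a.2⟩, t, ht, ?_, fun y => ?_⟩
      · rcases hdeg with hd | hd
        · exact Or.inl (by push_cast; omega)
        · exact Or.inr (show f.1 * a.1 = 0 by rw [hd, mul_zero])
      · refine (congrArg (Localization.mk f.1 (one' y.1) * ·) (hs y)).trans ?_
        rw [Localization.mk_mul, one_mul]⟩

theorem mulFun_val (U : (Opens (ProjectiveSpectrum.top 𝒜))ᵒᵖ) (s : Twist.sectN (𝒜 := 𝒜) d U)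
    (x : U.unop) : ((mulFun f h U s).1 x).1 = Localization.mk f.1 (one' x.1) * (s.1 x).1 := rfl

/-- The morphism `O(d) ⟶ O(e)` multiplying by a homogeneous element of degree `e - d`. -/
def mulTwist : Twist.twist 𝒜 d ⟶ Twist.twist 𝒜 e :=
  ⟨PresheafOfModules.homMk
    { app := fun U => AddCommGrpCat.ofHom
        (AddMonoidHom.mk' (mulFun f h U) fun s t =>
          Subtype.ext (funext fun x => Subtype.ext (mul_add (Localization.mk f.1 (one' x.1)) (s.1 x).1 (t.1 x).1)))
      naturality := fun {U V} i => by ext s; rfl }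
    (fun U c s => by
      let c' : Twist.O (𝒜 := 𝒜) U := c
      let s' : Twist.sectN (𝒜 := 𝒜) d U := s
      refine Subtype.ext (funext fun x => Subtype.ext ?_)
      change Localization.mk f.1 (one' x.1) * ((c'.1 x • s'.1 x : Twist.twistAt 𝒜 d x.1)).1 =
        ((c'.1 x • (mulFun f h U s').1 x : Twist.twistAt 𝒜 e x.1)).1
      rw [Twist.coe_smul_val, Twist.coe_smul_val, mulFun_val, mul_left_comm])⟩

theorem mulTwist_app (U : (Proj 𝒜).Opens) (s : Twist.sectN (𝒜 := 𝒜) d (op U)) :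
    (mulTwist f h).app U s = mulFun f h (op U) s := rfl

theorem mulTwist_add (f g : 𝒜 j) : mulTwist (f + g) h = mulTwist f h + mulTwist g h := by
  refine Scheme.Modules.hom_ext _ _ fun U => ?_
  ext s
  refine Subtype.ext (funext fun x => Subtype.ext ?_)
  change Localization.mk (f.1 + g.1) (one' x.1) * _ =
    Localization.mk f.1 (one' x.1) * _ + Localization.mk g.1 (one' x.1) * _
  rw [← add_mul, Localization.add_mk_self]

theorem mulTwist_zero : mulTwist (0 : 𝒜 j) h = 0 := by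
  refine Scheme.Modules.hom_ext _ _ fun U => ?_
  ext s
  refine Subtype.ext (funext fun x => Subtype.ext ?_)
  change Localization.mk (0 : S) (one' x.1) * _ = 0
  rw [Localization.mk_zero, zero_mul]

/-- A morphism out of `O(d)` is determined by its values on unit sections. -/
theorem hom_ext_units {M : (Proj 𝒜).Modules} (φ ψ : Twist.twist 𝒜 d ⟶ M)
    (H : ∀ x : ProjectiveSpectrum.top 𝒜, ∃ (U : (Proj 𝒜).Opens)
      (u : EGA73.TwistUnit (𝒜 := 𝒜) d U), x ∈ U ∧ φ.app U u.fwd = ψ.app U u.fwd) : φ = ψ := by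
  refine Scheme.Modules.hom_ext _ _ fun V => ?_
  ext s
  choose U u hxU he using H
  refine TopCat.Sheaf.eq_of_locally_eq' ⟨_, M.isSheaf⟩ (fun x : V => V ⊓ U x.1) V
    (fun _ => homOfLE inf_le_left)
    (fun x hx => Opens.mem_iSup.2 ⟨⟨x, hx⟩, hx, hxU x⟩) _ _ fun x => ?_
  have hle : V ⊓ U x.1 ≤ V := inf_le_left
  have hle' : V ⊓ U x.1 ≤ U x.1 := inf_le_right
  change M.presheaf.map (homOfLE hle).op (φ.app V s) = M.presheaf.map (homOfLE hle).op (ψ.app V s)
  have nφ : ∀ (W W' : (Proj 𝒜).Opens) (hW : W' ≤ W) (t : Γ(Twist.twist 𝒜 d, W))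
      (χ : Twist.twist 𝒜 d ⟶ M), M.presheaf.map (homOfLE hW).op (χ.app W t) =
        χ.app W' ((Twist.twist 𝒜 d).presheaf.map (homOfLE hW).op t) := fun W W' hW t χ =>
    (congr($(χ.mapPresheaf.naturality (homOfLE hW).op) t)).symm
  rw [nφ V _ hle s φ, nφ V _ hle s ψ]
  obtain ⟨c, hc⟩ := (EGA73.smul_unit_bijective ((u x.1).res hle')).2
    ((Twist.twist 𝒜 d).presheaf.map (homOfLE hle).op s)
  rw [← hc]
  let c' : Γ(Proj 𝒜, V ⊓ U x.1) := c
  let u' : Γ(Twist.twist 𝒜 d, V ⊓ U x.1) :=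
    (Twist.twist 𝒜 d).presheaf.map (homOfLE hle').op (u x.1).fwd
  change φ.app _ (c' • u') = ψ.app _ (c' • u')
  rw [Scheme.Modules.Hom.app_smul, Scheme.Modules.Hom.app_smul]
  refine congrArg (c' • ·) ?_
  rw [← nφ (U x.1) _ hle' (u x.1).fwd φ, ← nφ (U x.1) _ hle' (u x.1).fwd ψ, he x.1]

end Groth.Agent.SerreD94
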