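import Groth.Agent.SerreD94.Mul
import Groth.Agent.Pn71.Monomials
import Groth.Agent.Pn71.Cohomology

/-!
# Morphisms between the line bundles `O(d)` on projective space
-/

universe u

open CategoryTheory Limits AlgebraicGeometry TopologicalSpace Opposite

set_option autoImplicit false
set_option maxSynthPendingDepth 6
set_option maxHeartbeats 1000000
set_option synthInstance.maxHeartbeats 400000

noncomputable section

namespace Groth.Agent.SerreD94

open Pn71

variable (n : ℕ) (A : Type u) [CommRing A]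

section Laurent

variable {p q : ℕ}

/-- Laurent polynomials supported in a set of exponents. -/
def SuppIn (S : Set (Fin (n + 1) →₀ ℤ)) (u : LPoly n A) : Prop :=
  ∀ m, u.coeff m ≠ 0 → m ∈ S

variable {n A}

theorem suppIn_iff {S : Set (Fin (n + 1) →₀ ℤ)} {u : LPoly n A} :
    SuppIn n A S u ↔ u.coeff ∈ Finsupp.supported A A S := by
  rw [Finsupp.mem_supported']
  exact ⟨fun h m hm => by_contra fun hne => hm (h m hne),
    fun h m hne => by_contra fun hm => hne (h m hm)⟩

theorem suppIn_single {S : Set (Fin (n + 1) →₀ ℤ)} {m : Fin (n + 1) →₀ ℤ} (h : m ∈ S) (c : A) :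
    SuppIn n A S (AddMonoidAlgebra.single m c) := fun m' hm' => by
  by_contra hne
  exact hm' (Finsupp.single_eq_of_ne fun e => hne (e ▸ h))

theorem SuppIn.mul {S T U : Set (Fin (n + 1) →₀ ℤ)} {u v : LPoly n A} (hu : SuppIn n A S u)
    (hv : SuppIn n A T v) (h : ∀ a ∈ S, ∀ b ∈ T, a + b ∈ U) : SuppIn n A U (u * v) := fun m hm => by
  classical
  obtain ⟨a, ha, b, hb, rfl⟩ := Finset.mem_add.1
    (AddMonoidAlgebra.support_coeff_mul_subset u v (Finsupp.mem_support_iff.2 hm))
  exact h a (hu a (Finsupp.mem_support_iff.1 ha)) b (hv b (Finsupp.mem_support_iff.1 hb))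

theorem cell_add {d d' : ℤ} (σ : Fin (p + 1) → Fin (n + 1)) {a b : Fin (n + 1) →₀ ℤ}
    (ha : a ∈ cell d σ) (hb : b ∈ cell d' σ) : a + b ∈ cell (d + d') σ := by
  refine ⟨by simp only [deg, Finsupp.add_apply, Finset.sum_add_distrib]; rw [← ha.1, ← hb.1]; rfl,
    fun i hi => ?_⟩
  by_contra hni
  have h1 : 0 ≤ a i := not_lt.1 fun h => hni (ha.2 i h)
  have h2 : 0 ≤ b i := not_lt.1 fun h => hni (hb.2 i h)
  simp only [Finsupp.add_apply] at hi
  omega

theorem single_mem_cell (d : ℤ) (σ : Fin (p + 1) → Fin (n + 1)) (a : Fin (p + 1)) :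
    (Finsupp.single (σ a) d) ∈ cell d σ := by
  refine ⟨by simp [deg], fun i hi => ?_⟩
  rcases eq_or_ne i (σ a) with rfl | hne
  · exact ⟨a, rfl⟩
  · rw [Finsupp.single_eq_of_ne hne] at hi
    exact absurd hi (lt_irrefl 0)

variable {d : ℤ}

/-- The Laurent polynomial of a section over a standard open. -/
def L {σ : Fin (p + 1) → Fin (n + 1)} (s : Sect n A d σ) : LPoly n A :=
  AddMonoidAlgebra.ofCoeff (secEquiv A d σ s).1

variable {σ : Fin (p + 1) → Fin (n + 1)}

theorem L_suppIn (s : Sect n A d σ) : SuppIn n A (cell d σ) (L s) :=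
  suppIn_iff.2 (secEquiv A d σ s).2

theorem L_injective : Function.Injective (L (A := A) (d := d) (σ := σ)) := fun s t h =>
  (secEquiv A d σ).injective (Subtype.ext (congrArg AddMonoidAlgebra.coeff h))

theorem L_surjective {u : LPoly n A} (hu : SuppIn n A (cell d σ) u) :
    ∃ s : Sect n A d σ, L s = u := by
  refine ⟨(secEquiv A d σ).symm ⟨u.coeff, suppIn_iff.1 hu⟩, ?_⟩
  rw [L, AddEquiv.apply_symm_apply]

theorem L_frac {i : ℕ} (k : ℕ) (a : CohB1.polyGrading n A i) (h : (i : ℤ) = (k * (p + 1) : ℕ) + d) :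
    L (frac (mon_mem n A σ) d k a h) = vec A σ k a.1 := by
  refine congrArg AddMonoidAlgebra.ofCoeff ?_
  exact toVec_frac n A d σ k a h

theorem vec_mul (k k' : ℕ) (a b : MvPolynomial (Fin (n + 1)) A) :
    vec A σ (k + k') (a * b) = vec A σ k a * vec A σ k' b := by
  simp only [vec, map_mul, add_smul, neg_add]
  rw [mul_mul_mul_comm, AddMonoidAlgebra.single_mul_single, one_mul]

theorem vec_zero (a : MvPolynomial (Fin (n + 1)) A) : vec A σ 0 a = toL n A a := by
  simp only [vec, zero_smul, neg_zero]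
  exact mul_one _

/-- Multiplication by a homogeneous polynomial in Laurent coordinates. -/
theorem L_mulFun {j : ℕ} (f : CohB1.polyGrading n A j) {e : ℤ} (h : e = d + j) (s : Sect n A d σ) :
    L (mulFun f h (op (Dp n A σ)) s : Sect n A e σ) = toL n A f.1 * L s := by
  obtain ⟨i, k, a, hi, rfl⟩ := exists_rep n A d σ s
  have hmem : f.1 * a.1 ∈ CohB1.polyGrading n A (j + i) := SetLike.mul_mem_graded f.2 a.2
  have he : ((j + i : ℕ) : ℤ) = (k * (p + 1) : ℕ) + e := by push_cast at hi ⊢; linarith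
  have hfr : (mulFun f h (op (Dp n A σ)) (frac (mon_mem n A σ) d k a hi) : Sect n A e σ) =
      frac (mon_mem n A σ) e k ⟨_, hmem⟩ he := by
    refine Subtype.ext (funext fun x => Subtype.ext ?_)
    rw [mulFun_val, frac_apply, frac_apply, Localization.mk_mul, one_mul]
  rw [hfr, L_frac, L_frac, ← vec_zero (σ := σ) f.1, ← vec_mul, zero_add]

theorem L_res (τ : Fin (q + 1) → Fin (n + 1)) (g : Fin (p + 1) → Fin (q + 1))
    (s : Sect n A d (τ ∘ g)) :
    L (Twist.resN d (homOfLE (Dp_comp_le n A τ g)).op s : Sect n A d τ) = L s :=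
  congrArg AddMonoidAlgebra.ofCoeff (secEquiv_res n A d τ g s)

/-- A Laurent polynomial of degree zero as a function on a standard open. -/
theorem exists_function {u : LPoly n A} (hu : SuppIn n A (cell 0 σ) u) :
    ∃ c : Twist.O (𝒜 := CohB1.polyGrading n A) (op (Dp n A σ)),
      ∀ (d : ℤ) (s : Sect n A d σ), L (c • s) = u * L s := by
  obtain ⟨i, k, a, hi, hv⟩ := exists_vec_eq n A 0 σ ⟨u.coeff, suppIn_iff.1 hu⟩
  have hu' : u = vec A σ k a.1 := AddMonoidAlgebra.coeff_inj.1 hv.symm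
  have hik : i = k * (p + 1) := by omega
  subst hik
  refine ⟨⟨fun x => HomogeneousLocalization.mk ⟨k * (p + 1), a,
      ⟨mon A σ ^ k, by simpa using SetLike.pow_mem_graded k (mon_mem n A σ)⟩, pow_not_mem k x⟩,
    fun x => ⟨_, x.2, 𝟙 _, k * (p + 1), a,
      ⟨mon A σ ^ k, by simpa using SetLike.pow_mem_graded k (mon_mem n A σ)⟩,
      fun y => pow_not_mem k y, fun _ => rfl⟩⟩, fun d s => ?_⟩
  obtain ⟨i', k', a', hi', rfl⟩ := exists_rep n A d σ s
  have hmem : a.1 * a'.1 ∈ CohB1.polyGrading n A (k * (p + 1) + i') :=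
    SetLike.mul_mem_graded a.2 a'.2
  have he : ((k * (p + 1) + i' : ℕ) : ℤ) = ((k + k') * (p + 1) : ℕ) + d := by
    push_cast at hi' ⊢; linarith
  rw [L_frac, hu', ← vec_mul, ← L_frac (k + k') ⟨_, hmem⟩ he]
  refine congrArg L (Subtype.ext (funext fun x => Subtype.ext ?_))
  refine (Twist.coe_smul_val d x.1 _ _).trans ?_
  rw [frac_apply, frac_apply, HomogeneousLocalization.val_mk, Localization.mk_mul]
  exact congrArg (Localization.mk (a.1 * a'.1)) (Subtype.ext (pow_add (mon A σ) k k').symm)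

end Laurent

section Surjective

variable {n A} {d e : ℤ} {p q : ℕ}
  (φ : Twist.twistProjSpace n A d ⟶ Twist.twistProjSpace n A e)

/-- A morphism on the sections over a standard open. -/
def appDp (σ : Fin (p + 1) → Fin (n + 1)) (s : Sect n A d σ) : Sect n A e σ :=
  φ.app (Dp n A σ) s

theorem appDp_res (τ : Fin (q + 1) → Fin (n + 1)) (g : Fin (p + 1) → Fin (q + 1))
    (s : Sect n A d (τ ∘ g)) :
    appDp φ τ (Twist.resN d (homOfLE (Dp_comp_le n A τ g)).op s) =
      Twist.resN e (homOfLE (Dp_comp_le n A τ g)).op (appDp φ (τ ∘ g) s) :=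
  congr($(φ.mapPresheaf.naturality (homOfLE (Dp_comp_le n A τ g)).op) s)

theorem appDp_smul (σ : Fin (p + 1) → Fin (n + 1))
    (c : Twist.O (𝒜 := CohB1.polyGrading n A) (op (Dp n A σ))) (s : Sect n A d σ) :
    appDp φ σ (c • s) = c • appDp φ σ s :=
  Scheme.Modules.Hom.app_smul φ c s

/-- Linearity over Laurent polynomials of degree zero. -/
theorem L_appDp_mul (σ : Fin (p + 1) → Fin (n + 1)) {u : LPoly n A}
    (hu : SuppIn n A (cell 0 σ) u) {s t : Sect n A d σ} (h : L s = u * L t) :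
    L (appDp φ σ s) = u * L (appDp φ σ t) := by
  obtain ⟨c, hc⟩ := exists_function hu
  have hs : s = c • t := L_injective (h.trans (hc d t).symm)
  rw [hs, appDp_smul, hc]

theorem frame_eq (i : Fin (n + 1)) {s : Sect n A d (fun _ : Fin 1 => i)}
    {t : Sect n A d (fun _ : Fin 1 => i)} (ht : L t = AddMonoidAlgebra.single (Finsupp.single i d) 1) :
    L (appDp φ _ s) = L s * AddMonoidAlgebra.single (-Finsupp.single i d) 1 * L (appDp φ _ t) := by
  refine L_appDp_mul φ _ ?_ ?_
  · refine (L_suppIn s).mul (suppIn_single (S := cell (-d) (fun _ : Fin 1 => i)) ?_ 1) fun a ha b hb => ?_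
    · rw [← Finsupp.single_neg]
      exact single_mem_cell (-d) (fun _ : Fin 1 => i) 0
    · simpa using cell_add _ ha hb
  · rw [ht, mul_assoc, AddMonoidAlgebra.single_mul_single, neg_add_cancel, one_mul]
    exact (mul_one _).symm

/-- The multiplier of a morphism `O(d) ⟶ O(e)`. -/
theorem exists_mult : ∃ G : LPoly n A,
    (∀ m, G.coeff m ≠ 0 → deg m = e - d ∧ ∀ i l : Fin (n + 1), i ≠ l → 0 ≤ m i) ∧
    ∀ (i : Fin (n + 1)) (s : Sect n A d (fun _ : Fin 1 => i)), L (appDp φ _ s) = L s * G := by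
  have hfr : ∀ i : Fin (n + 1), ∃ t : Sect n A d (fun _ : Fin 1 => i),
      L t = AddMonoidAlgebra.single (Finsupp.single i d) 1 := fun i =>
    L_surjective (suppIn_single (single_mem_cell d (fun _ : Fin 1 => i) 0) 1)
  choose t ht using hfr
  obtain ⟨Γ', hΓ⟩ : ∃ Γ' : Fin (n + 1) → LPoly n A, ∀ i,
      Γ' i = AddMonoidAlgebra.single (-Finsupp.single i d) 1 * L (appDp φ _ (t i)) :=
    ⟨_, fun _ => rfl⟩
  have hsupp : ∀ i, SuppIn n A (cell (e - d) (fun _ : Fin 1 => i)) (Γ' i) := fun i => by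
    rw [hΓ]
    refine (suppIn_single (S := cell (-d) (fun _ : Fin 1 => i)) ?_ 1).mul (L_suppIn _) fun a ha b hb => ?_
    · rw [← Finsupp.single_neg]
      exact single_mem_cell (-d) (fun _ : Fin 1 => i) 0
    · rw [sub_eq_neg_add]
      exact cell_add _ ha hb
  have hagree : ∀ i l, Γ' i = Γ' l := by
    intro i l
    let τ : Fin 2 → Fin (n + 1) := ![i, l]
    have key : ∀ a : Fin 2, ∀ v : Sect n A d τ, L v = AddMonoidAlgebra.single (Finsupp.single (τ a) d) 1 →
        L (appDp φ τ v) = AddMonoidAlgebra.single (Finsupp.single (τ a) d) 1 * Γ' (τ a) := by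
      intro a v hv
      obtain ⟨v', hv'⟩ := L_surjective (n := n) (A := A) (d := d) (σ := τ ∘ fun _ : Fin 1 => a)
        (suppIn_single (single_mem_cell d (τ ∘ fun _ : Fin 1 => a) 0) 1)
      have h1 : v = Twist.resN d (homOfLE (Dp_comp_le n A τ fun _ : Fin 1 => a)).op v' :=
        L_injective (hv.trans ((L_res τ (fun _ : Fin 1 => a) v').trans hv').symm)
      rw [h1, appDp_res, L_res]
      change L (appDp φ (fun _ : Fin 1 => τ a) v') = _
      rw [show v' = t (τ a) from L_injective (hv'.trans (ht (τ a)).symm)]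
      simp only [hΓ, ← mul_assoc, AddMonoidAlgebra.single_mul_single, add_neg_cancel, one_mul]
      exact (one_mul _).symm
    obtain ⟨v₀, hv₀⟩ := L_surjective (n := n) (A := A) (d := d) (σ := τ)
      (suppIn_single (single_mem_cell d τ 0) 1)
    obtain ⟨v₁, hv₁⟩ := L_surjective (n := n) (A := A) (d := d) (σ := τ)
      (suppIn_single (single_mem_cell d τ 1) 1)
    have hu : SuppIn n A (cell 0 τ)
        (AddMonoidAlgebra.single (Finsupp.single (τ 1) d + Finsupp.single (τ 0) (-d)) (1 : A)) :=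
      suppIn_single (by
        have := cell_add τ (single_mem_cell d τ 1) (single_mem_cell (-d) τ 0)
        simpa using this) 1
    have h2 := L_appDp_mul φ τ hu (s := v₁) (t := v₀) (by
      rw [hv₁, hv₀, AddMonoidAlgebra.single_mul_single, one_mul, add_assoc, ← Finsupp.single_add,
        neg_add_cancel, Finsupp.single_zero, add_zero])
    rw [key 1 v₁ hv₁, key 0 v₀ hv₀, ← mul_assoc, AddMonoidAlgebra.single_mul_single, one_mul,
      show Finsupp.single (τ 1) d + Finsupp.single (τ 0) (-d) + Finsupp.single (τ 0) d =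
        Finsupp.single (τ 1) d by rw [Finsupp.single_neg, neg_add_cancel_right]] at h2
    have h3 := congrArg (AddMonoidAlgebra.single (-Finsupp.single (τ 1) d) (1 : A) * ·) h2
    simp only [← mul_assoc, AddMonoidAlgebra.single_mul_single, neg_add_cancel, one_mul] at h3
    rw [← AddMonoidAlgebra.one_def, one_mul, one_mul] at h3
    exact h3.symm
  refine ⟨Γ' 0, fun m hm => ⟨(hsupp 0 m hm).1, fun i l hil => ?_⟩, fun i s => ?_⟩
  · by_contra hneg
    rw [hagree 0 l] at hm
    obtain ⟨a, ha⟩ := (hsupp l m hm).2 i (not_le.1 hneg)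
    exact hil ha.symm
  · rw [hagree 0 i, frame_eq φ i (ht i), mul_assoc, hΓ]

/-- The unit section on a standard open. -/
def unitDp (i : Fin (n + 1)) :
    EGA73.TwistUnit (𝒜 := CohB1.polyGrading n A) d (Dp n A (fun _ : Fin 1 => i)) where
  fwd := frac (mon_mem n A _) d (degUnit n A d (fun _ : Fin 1 => i)).r
    (degUnit n A d (fun _ : Fin 1 => i)).u (degUnit n A d (fun _ : Fin 1 => i)).hi
  bwd := frac (mon_mem n A _) (-d) (degUnit n A d (fun _ : Fin 1 => i)).r'
    (degUnit n A d (fun _ : Fin 1 => i)).v (by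
      rw [(degUnit n A d (fun _ : Fin 1 => i)).hj]; ring)
  mul_eq x := by
    rw [frac_apply, frac_apply, Localization.mk_mul,
      ← Localization.mk_self (1 : x.1.asHomogeneousIdeal.toIdeal.primeCompl),
      Localization.mk_eq_mk_iff, Localization.r_iff_exists]
    refine ⟨1, ?_⟩
    simp [(degUnit n A d (fun _ : Fin 1 => i)).mul_eq, pow_add]

theorem exists_mem_Dp (x : ProjectiveSpectrum.top (CohB1.polyGrading n A)) :
    ∃ i : Fin (n + 1), x ∈ Dp n A (fun _ : Fin 1 => i) := by
  obtain ⟨i, hi⟩ := Opens.mem_iSup.1 ((iSup_stdU n A).ge (trivial : x ∈ (⊤ : (CohB1.ProjSpace n A).Opens)))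
  refine ⟨i.down, ?_⟩
  have e : mon A (fun _ : Fin 1 => i.down) = MvPolynomial.X i.down := Fin.prod_univ_one _
  change x ∈ ProjectiveSpectrum.basicOpen (CohB1.polyGrading n A) (mon A (fun _ : Fin 1 => i.down))
  rw [e]
  exact hi

/-- Two morphisms out of `O(d)` with the same effect on the standard opens agree. -/
theorem hom_ext_Dp {ψ : Twist.twistProjSpace n A d ⟶ Twist.twistProjSpace n A e}
    (H : ∀ (i : Fin (n + 1)) (s : Sect n A d (fun _ : Fin 1 => i)),
      L (appDp φ _ s) = L (appDp ψ _ s)) : φ = ψ := by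
  refine hom_ext_units φ ψ fun x => ?_
  obtain ⟨i, hi⟩ := exists_mem_Dp x
  exact ⟨_, unitDp i, hi, L_injective (H i (unitDp i).fwd)⟩

theorem L_appDp_mulTwist {j : ℕ} (f : CohB1.polyGrading n A j) (h : e = d + j)
    (σ : Fin (p + 1) → Fin (n + 1)) (s : Sect n A d σ) :
    L (appDp (mulTwist f h) σ s) = toL n A f.1 * L s :=
  L_mulFun f h s

theorem exists_toL_eq {j : ℕ} {G : LPoly n A} (hG : ∀ m, G.coeff m ≠ 0 → deg m = j ∧ ∀ i, 0 ≤ m i) :
    ∃ f : CohB1.polyGrading n A j, toL n A f.1 = G := by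
  refine ⟨⟨∑ m ∈ G.coeff.support, MvPolynomial.monomial (m.mapRange Int.toNat rfl) (G.coeff m),
    Submodule.sum_mem _ fun m hm => MvPolynomial.isHomogeneous_monomial _ ?_⟩, ?_⟩
  · obtain ⟨hd, hnn⟩ := hG m (Finsupp.mem_support_iff.1 hm)
    have h2 : (((m.mapRange Int.toNat rfl).degree : ℕ) : ℤ) = j := by
      rw [Finsupp.degree_eq_sum]
      push_cast
      simp only [Finsupp.mapRange_apply, Int.toNat_of_nonneg (hnn _)]
      exact hd
    exact_mod_cast h2
  · rw [map_sum]
    conv_rhs => rw [← AddMonoidAlgebra.sum_coeff_single G]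
    refine Finset.sum_congr rfl fun m hm => ?_
    obtain ⟨-, hnn⟩ := hG m (Finsupp.mem_support_iff.1 hm)
    rw [toL_monomial]
    refine congrArg (AddMonoidAlgebra.single · _) (Finsupp.ext fun i => ?_)
    simpa using hnn i

/-- `Hom(O(d), O(e))` consists of the polynomials of degree `e - d` when `d ≤ e`. -/
theorem exists_eq_mulTwist {j : ℕ} (h : e = d + j) :
    ∃ f : CohB1.polyGrading n A j, φ = mulTwist f h := by
  obtain ⟨G, hG, hφ⟩ := exists_mult φ
  obtain ⟨f, hf⟩ := exists_toL_eq (n := n) (A := A) (j := j) (G := G) fun m hm => by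
    obtain ⟨hd, hnn⟩ := hG m hm
    have hd' : deg m = j := by omega
    refine ⟨hd', fun i => ?_⟩
    by_cases hl : ∃ l, i ≠ l
    · obtain ⟨l, hl⟩ := hl
      exact hnn i l hl
    · push Not at hl
      rw [deg, Finset.sum_eq_single i (fun l _ hli => absurd (hl l).symm hli)
        (fun hi => absurd (Finset.mem_univ i) hi)] at hd'
      omega
  refine ⟨f, hom_ext_Dp φ fun i s => ?_⟩
  rw [hφ i s, L_appDp_mulTwist, hf, mul_comm]

/-- There are no morphisms to a smaller twist when `1 ≤ n`. -/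
theorem hom_eq_zero (hn : 1 ≤ n) (h : e < d) : φ = 0 := by
  obtain ⟨G, hG, hφ⟩ := exists_mult φ
  have hG0 : G = 0 := by
    apply AddMonoidAlgebra.coeff_inj.1
    ext m
    by_contra hne
    obtain ⟨hd, hnn⟩ := hG m hne
    have : 0 ≤ deg m := Finset.sum_nonneg fun i _ => by
      haveI : Nontrivial (Fin (n + 1)) := Fin.nontrivial_iff_two_le.2 (by omega)
      obtain ⟨l, hl⟩ := exists_ne i
      exact hnn i l hl.symm
    omega
  refine hom_ext_Dp φ fun i s => ?_
  rw [hφ i s, hG0, mul_zero]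
  symm
  have : secEquiv A e _ (0 : Sect n A e (fun _ : Fin 1 => i)) = 0 := map_zero _
  change AddMonoidAlgebra.ofCoeff (secEquiv A e _ (0 : Sect n A e (fun _ : Fin 1 => i))).1 = 0
  rw [this]
  rfl

end Surjective

end Groth.Agent.SerreD94
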